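import Cfsg.Agent.H420.G2U.SmallKey
import Cfsg.Agent.H934.OutB
import Cfsg.Agent.H163.PG.Ord
import Cfsg.Agent.S2065
import Cfsg.Agent.S2066
import Cfsg.Agent.S2121
import Cfsg.Agent.S2126
import Cfsg.Agent.S2119
import Cfsg.Agent.S2475
import Cfsg.Agent.H379.J2Spec

/-!
# No elements of order 21, 133, 273 in small almost simple groups (helper420; row `G₂(q)` of S3938)

`H` finite, `S` a simple normal subgroup with trivial centralizer, `IsNamed g S`, `Big S p N 6`, `x ∈ H` of order `N`.

* `no133` : `N = 133`, `p = 19`, `g = j1`;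
* `no273` : `N = 273`, `p = 13`, `g ∈ [psl 2 13, sz 8, psl 2 64, g2 4]`;
* `no21a` : `N = 21`, `p = 7`, `g ∈ [alt 7, alt 8, psl 2 7, psl 3 2, psl 4 2, psl 2 13, psl 2 27, psl 2 64, psu 3 3, j2]`.
-/

set_option autoImplicit false

namespace Cfsg.Agent.H420.G2U

open Subgroup Cfsg.Agent.H56.Exc Cfsg.Agent.OrdDiv Cfsg.Agent.H436

universe u

section out

variable {S : Type u} [Group S] [Finite S] [IsSimpleGroup S] (hna : ¬ IsMulCommutative S)

include hna

omit [Finite S] in
theorem center_bot : center S = ⊥ := by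
  rcases IsSimpleGroup.eq_bot_or_eq_top_of_normal (center S) inferInstance with h | h
  · exact h
  · exfalso
    apply hna
    rw [isMulCommutative_iff]
    intro a b
    have ha : a ∈ center S := by rw [h]; exact mem_top _
    exact ((mem_center_iff.1 ha) b).symm

omit [Finite S] in
theorem center_bot' {T : Type*} [Group T] (e : S ≃* T) : center T = ⊥ := by
  rw [eq_bot_iff]
  intro t ht
  have h1 : e.symm t ∈ center S := by
    rw [mem_center_iff] at ht ⊢
    intro s
    apply e.injective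
    rw [map_mul, map_mul, e.apply_symm_apply]
    exact ht (e s)
  rw [center_bot hna, mem_bot] at h1
  rw [mem_bot, ← e.apply_symm_apply t, h1, map_one]

theorem card_aut {T : Type} [Group T] (e : S ≃* T) {k : ℕ} (h : Nat.card (Cfsg.Out T) = k) :
    Nat.card (MulAut S) = k * Nat.card S := by
  rw [← H934.OutB.card_out_mul S hna, H934.OutB.card_out_congr e, h]

omit [Finite S] [IsSimpleGroup S] hna in
theorem aut_alt {n : ℕ} (h5 : 5 ≤ n) (h6 : n ≠ 6) (e : S ≃* ↥(alternatingGroup (Fin n))) :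
    Nat.card (MulAut S) = 2 * Nat.card S := by
  have : Nontrivial (Fin n) := Fin.nontrivial_iff_two_le.2 (by omega)
  rw [Nat.card_congr (MulAut.congr e).toEquiv, Nat.card_congr e.toEquiv,
    ← Nat.card_congr (Equiv.ofBijective _ (S2119.result n (by omega) h6)),
    two_mul_nat_card_alternatingGroup (α := Fin n)]

theorem aut_psl {n p f k : ℕ} (hp : p.Prime) (hf : 1 ≤ f) (hn : 3 ≤ n) (h : Real (.psl n (p ^ f)) S)
    (hk : 2 * f * Nat.gcd n (p ^ f - 1) = k) : Nat.card (MulAut S) = k * Nat.card S := by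
  obtain ⟨F, _, _, hF, ⟨e⟩⟩ := h
  refine card_aut hna e ?_
  rw [H163.PG.card_out_psl hp hf hF hn (center_bot' hna e), hF, hk]

theorem aut_psl2 {p f k : ℕ} (hp : p.Prime) (hf : 1 ≤ f) (h4 : 4 ≤ p ^ f) (h : Real (.psl 2 (p ^ f)) S)
    (hk : f * Nat.gcd 2 (p ^ f - 1) = k) : Nat.card (MulAut S) = k * Nat.card S := by
  obtain ⟨F, _, _, hF, ⟨e⟩⟩ := h
  refine card_aut hna e ?_
  rw [H163.PG.card_out_psl_two hp hf hF (by rw [hF]; exact h4) (center_bot' hna e), hF, hk]

theorem aut_psu {n q p f k : ℕ} (hp : p.Prime) (hf : 1 ≤ f) (hq : q = p ^ f) (hn : 3 ≤ n)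
    (h32 : ¬ (n = 3 ∧ q = 2)) (h : Real (.psu n q) S) (hk : Nat.gcd n (q + 1) * (2 * f) = k) :
    Nat.card (MulAut S) = k * Nat.card S := by
  obtain ⟨F, _, _, hF, ⟨e⟩⟩ := h
  refine card_aut hna e ?_
  rw [H163.PG.card_out_psu hp hf hq hF hn h32 (center_bot' hna e), hk]

theorem aut_sz8 (h : Real (.sz 8) S) : Nat.card (MulAut S) = 3 * Nat.card S := by
  obtain ⟨F, _, _, m, hm, hF, h8, ⟨e⟩⟩ := h
  have hm1 : m = 1 := by
    have h1 : 2 ^ (2 * m + 1) = 2 ^ 3 := h8.symm
    have := Nat.pow_right_injective (le_refl 2) h1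
    omega
  subst hm1
  refine card_aut hna e ?_
  rw [S2126.result hm (hF.trans h8)]

theorem aut_g24 (h : Real (.g2 4) S) : Nat.card (MulAut S) = 2 * Nat.card S := by
  obtain ⟨F, _, _, hF, ⟨e⟩⟩ := h
  refine card_aut hna e ?_
  have : Fact (Nat.Prime 2) := ⟨Nat.prime_two⟩
  have hc : CharP F 2 := by
    refine charP_of_card_eq_prime_pow (f := 2) ?_
    rw [hF]
    norm_num
  rw [S2121.result 2 2 (by rw [hF]; norm_num) (by norm_num)]
  norm_num

theorem aut_j1 (h : Real .j1 S) : Nat.card (MulAut S) = 1 * Nat.card S := by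
  obtain ⟨e⟩ := h
  exact card_aut hna e S2065.result

theorem aut_j2 (h : Real .j2 S) : Nat.card (MulAut S) = 2 * Nat.card S := by
  obtain ⟨e⟩ := h
  exact card_aut hna e S2066.result

end out

/-- elements of `PSL₂(q)` in the tori -/
theorem exists_torus {S : Type u} [Group S] {p f : ℕ} (hp : p.Prime) (h4 : 4 ≤ p ^ f)
    (h : Real (.psl 2 (p ^ f)) S) {m : ℕ} (hm : m ∣ (p ^ f - 1) / Nat.gcd 2 (p ^ f - 1) ∨
      m ∣ (p ^ f + 1) / Nat.gcd 2 (p ^ f - 1)) : ∃ x : S, orderOf x = m := by
  obtain ⟨F, _, _, hF, ⟨e⟩⟩ := h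
  have : Fact p.Prime := ⟨hp⟩
  have hc : CharP F p := charP_of_card_eq_prime_pow (f := f) hF
  have h1 := S2475.result (F := F) p (by rw [hF]; exact h4)
  rw [hF] at h1
  have h2 : m ∈ Set.range (orderOf : Matrix.ProjectiveSpecialLinearGroup (Fin 2) F → ℕ) := by
    rw [h1]
    exact Or.inr hm
  obtain ⟨y, hy⟩ := h2
  exact ⟨e.symm y, by rw [← hy]; exact e.symm.orderOf_eq y⟩

/-- a big prime and a torus element -/
theorem kill_cent {S : Type u} [Group S] [Finite S] {p N m : ℕ} (hb : Big S p N 6) {x : S} (hx : orderOf x = m)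
    (h0 : m ≠ 0) (hpm : p ∣ m) (h : ¬ m ∣ N) : False := by
  have hp := hb.prime
  have hyo : orderOf (x ^ (m / p)) = p := by
    rw [orderOf_pow_of_dvd (Nat.div_pos (Nat.le_of_dvd (Nat.pos_of_ne_zero h0) hpm) hp.pos).ne'
      (by rw [hx]; exact Nat.div_dvd_of_dvd hpm), hx, Nat.div_div_self hpm h0]
  apply h
  refine dvd_trans ?_ (hb.card _ hyo)
  have h1 : x ∈ centralizer ({x ^ (m / p)} : Set S) := by
    rw [mem_centralizer_singleton_iff]
    exact ((Commute.refl x).pow_right _).eq
  have h2 : orderOf (⟨x, h1⟩ : centralizer ({x ^ (m / p)} : Set S)) = m := by rw [Subgroup.orderOf_mk, hx]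
  have h3 := orderOf_dvd_natCard (⟨x, h1⟩ : centralizer ({x ^ (m / p)} : Set S))
  rwa [h2] at h3

section main

variable {H : Type u} [Group H] [Finite H] (S : Subgroup H) [S.Normal] [IsSimpleGroup S]
  (hc : centralizer (S : Set H) = ⊥)

include hc

omit [IsSimpleGroup S] in
/-- the element lies in the socle -/
theorem exists_in {k n : ℕ} (hk : Nat.card (MulAut S) = k * Nat.card S) {x : H} (hx : orderOf x = n)
    (hn : Nat.Coprime n k) : ∃ y : S, orderOf y = n := by
  have h1 := index_dvd S hc hk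
  have h2 : x ∈ S := mem_of_coprime (Nat.Coprime.coprime_dvd_right h1 (by rwa [hx]))
  exact ⟨⟨x, h2⟩, by rw [Subgroup.orderOf_mk, hx]⟩

omit [IsSimpleGroup S] in
/-- the cube of the element lies in the socle -/
theorem exists_cube {k n : ℕ} (hk : Nat.card (MulAut S) = k * Nat.card S) {x : H} (hx : orderOf x = 3 * n)
    (hn : Nat.Coprime n k) : ∃ y : S, (y : H) = x ^ 3 ∧ orderOf y = n := by
  have h1 := index_dvd S hc hk
  have ho : orderOf (x ^ 3) = n := by
    rw [orderOf_pow_of_dvd (by norm_num) (by rw [hx]; exact dvd_mul_right _ _), hx, Nat.mul_div_cancel_left _ (by norm_num)]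
  have h2 : x ^ 3 ∈ S := mem_of_coprime (Nat.Coprime.coprime_dvd_right h1 (by rwa [ho]))
  exact ⟨⟨x ^ 3, h2⟩, rfl, by rw [Subgroup.orderOf_mk, ho]⟩

variable (hna : ¬ IsMulCommutative S)

include hna

/-- **`J₁`** -/
theorem no133 (hg : IsNamed .j1 S) (hb : Big S 19 133 6) {x : H} (hx : orderOf x = 133) : False := by
  obtain ⟨y, hy⟩ := exists_in S hc (aut_j1 hna hg.real) hx (by norm_num)
  exact kill (C := 175560) hb (by rw [hg.ord]; decide +kernel) (by norm_num) hy (by decide +kernel)

/-- **order 273** -/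
theorem no273 {g : Grp} (hg : IsNamed g S) (hb : Big S 13 273 6) {x : H} (hx : orderOf x = 273)
    (hl : g = .psl 2 13 ∨ g = .sz 8 ∨ g = .psl 2 64 ∨ g = .g2 4) : False := by
  rcases hl with rfl | rfl | rfl | rfl
  · obtain ⟨y, hy⟩ := exists_in S hc (aut_psl2 (p := 13) (f := 1) (k := 2) hna (by norm_num) le_rfl (by norm_num)
      (by simpa using hg.real) (by norm_num)) hx (by norm_num)
    exact kill (C := 1092) hb (by rw [hg.ord]; decide +kernel) (by norm_num) hy (by decide +kernel)
  · obtain ⟨y, -, hy⟩ := exists_cube S hc (aut_sz8 hna hg.real) (n := 91) (by rw [hx]) (by norm_num)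
    exact kill (C := 29120) hb (by rw [hg.ord]; decide +kernel) (by norm_num) hy (by decide +kernel)
  · obtain ⟨y, hy⟩ := exists_torus (S := S) (p := 2) (f := 6) (m := 65) Nat.prime_two (by norm_num)
      (by simpa using hg.real) (Or.inr (by norm_num))
    exact kill_cent hb hy (by norm_num) (by norm_num) (by norm_num)
  · obtain ⟨y, hy⟩ := exists_in S hc (aut_g24 hna hg.real) hx (by norm_num)
    exact kill (C := 251596800) hb (by rw [hg.ord]; decide +kernel) (by norm_num) hy (by decide +kernel)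

/-- **order 21**, the elements of the socle -/
theorem no21a {g : Grp} (hg : IsNamed g S) (hb : Big S 7 21 6) {x : H} (hx : orderOf x = 21)
    (hl : g = .alt 7 ∨ g = .alt 8 ∨ g = .psl 2 7 ∨ g = .psl 3 2 ∨ g = .psl 4 2 ∨ g = .psl 2 13 ∨ g = .psl 2 27 ∨
      g = .psl 2 64 ∨ g = .psu 3 3 ∨ g = .j2) : False := by
  rcases hl with rfl | rfl | rfl | rfl | rfl | rfl | rfl | rfl | rfl | rfl
  · obtain ⟨e⟩ := hg.real
    obtain ⟨y, hy⟩ := exists_in S hc (aut_alt (by norm_num) (by norm_num) e) hx (by norm_num)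
    exact kill (C := 2520) hb (by rw [hg.ord]; decide +kernel) (by norm_num) hy (by decide +kernel)
  · obtain ⟨e⟩ := hg.real
    obtain ⟨y, hy⟩ := exists_in S hc (aut_alt (by norm_num) (by norm_num) e) hx (by norm_num)
    exact kill (C := 20160) hb (by rw [hg.ord]; decide +kernel) (by norm_num) hy (by decide +kernel)
  · obtain ⟨y, hy⟩ := exists_in S hc (aut_psl2 (p := 7) (f := 1) (k := 2) hna (by norm_num) le_rfl (by norm_num)
      (by simpa using hg.real) (by norm_num)) hx (by norm_num)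
    exact kill (C := 168) hb (by rw [hg.ord]; decide +kernel) (by norm_num) hy (by decide +kernel)
  · obtain ⟨y, hy⟩ := exists_in S hc (aut_psl (n := 3) (p := 2) (f := 1) (k := 2) hna (by norm_num) le_rfl (by norm_num)
      (by simpa using hg.real) (by norm_num)) hx (by norm_num)
    exact kill (C := 168) hb (by rw [hg.ord]; decide +kernel) (by norm_num) hy (by decide +kernel)
  · obtain ⟨y, hy⟩ := exists_in S hc (aut_psl (n := 4) (p := 2) (f := 1) (k := 2) hna (by norm_num) le_rfl (by norm_num)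
      (by simpa using hg.real) (by norm_num)) hx (by norm_num)
    exact kill (C := 20160) hb (by rw [hg.ord]; decide +kernel) (by norm_num) hy (by decide +kernel)
  · obtain ⟨y, hy⟩ := exists_in S hc (aut_psl2 (p := 13) (f := 1) (k := 2) hna (by norm_num) le_rfl (by norm_num)
      (by simpa using hg.real) (by norm_num)) hx (by norm_num)
    exact kill (C := 1092) hb (by rw [hg.ord]; decide +kernel) (by norm_num) hy (by decide +kernel)
  · obtain ⟨y, hy⟩ := exists_torus (S := S) (p := 3) (f := 3) (m := 14) Nat.prime_three (by norm_num)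
      (by simpa using hg.real) (Or.inr (by norm_num))
    exact kill_cent hb hy (by norm_num) (by norm_num) (by norm_num)
  · obtain ⟨y, hy⟩ := exists_torus (S := S) (p := 2) (f := 6) (m := 63) Nat.prime_two (by norm_num)
      (by simpa using hg.real) (Or.inl (by norm_num))
    exact kill_cent hb hy (by norm_num) (by norm_num) (by norm_num)
  · obtain ⟨y, hy⟩ := exists_in S hc (aut_psu (p := 3) (f := 1) (k := 2) hna (by norm_num) le_rfl (by norm_num)
      (by norm_num) (by norm_num) hg.real (by norm_num)) hx (by norm_num)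
    exact kill (C := 6048) hb (by rw [hg.ord]; decide +kernel) (by norm_num) hy (by decide +kernel)
  · obtain ⟨y, hy⟩ := exists_in S hc (aut_j2 hna hg.real) hx (by norm_num)
    obtain ⟨e⟩ := hg.real
    have h1 : 21 ∈ Set.range (orderOf : Cfsg.Spor.J2 → ℕ) := ⟨e y, by rw [← hy]; exact e.orderOf_eq y⟩
    rw [H379.J2Spec.range_J2] at h1
    revert h1
    decide

end main

end Cfsg.Agent.H420.G2U
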