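import Cfsg.Agent.H420.G2U.Small
import Cfsg.Agent.H436.TTPsl2
import Cfsg.Agent.OddCyclic.ClaimC.SzIso
import Cfsg.Agent.H389.Small
import Cfsg.Agent.H221.Der.Sz

/-!
# No elements of order 21 in `Aut(L₂(8))` and `Aut(Sz(8))` (helper420)

* `no21b` : `L₂(8)` (nine Sylow 2-subgroups);
* `no21c` : `Sz(8)` (an automorphism of order 3 centralizes an element of order 5).
-/

set_option autoImplicit false

namespace Cfsg.Agent.H420.G2U

open Subgroup Cfsg.Agent.H56.Exc Cfsg.Agent.OrdDiv Cfsg.Agent.H436
open scoped Pointwise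

universe u

/-- no permutation of order 21 in degree 9 -/
theorem no_perm {α : Type*} [Finite α] (h : Nat.card α = 9) (σ : Equiv.Perm α) (ho : orderOf σ = 21) : False := by
  classical
  have := Fintype.ofFinite α
  rw [Nat.card_eq_fintype_card] at h
  have hsum : σ.cycleType.sum ≤ 9 := by
    rw [Equiv.Perm.sum_cycleType, ← h]
    exact Finset.card_le_univ _
  have hdv : ∀ n ∈ σ.cycleType, n ∣ 21 := fun n hn => by
    rw [← ho]
    exact Equiv.Perm.dvd_of_mem_cycleType hn
  have h21 : ∀ n : ℕ, n ∣ 21 → n = 1 ∨ n = 3 ∨ n = 7 ∨ n = 21 := by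
    intro n hn
    have h1 : n ∈ Nat.divisors 21 := Nat.mem_divisors.2 ⟨hn, by norm_num⟩
    have h2 : Nat.divisors 21 = {1, 3, 7, 21} := by decide
    rw [h2] at h1
    simpa using h1
  have h7 : 7 ∈ σ.cycleType := by
    by_contra h7
    have h1 : σ.cycleType.lcm ∣ 3 := by
      rw [Multiset.lcm_dvd]
      intro n hn
      rcases h21 n (hdv n hn) with rfl | rfl | rfl | rfl
      · norm_num
      · norm_num
      · exact absurd hn h7
      · have := (Multiset.single_le_sum (fun _ _ => Nat.zero_le _) _ hn).trans hsum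
        omega
    rw [Equiv.Perm.lcm_cycleType, ho] at h1
    revert h1
    decide
  have h3 : 3 ∈ σ.cycleType := by
    by_contra h3
    have h1 : σ.cycleType.lcm ∣ 7 := by
      rw [Multiset.lcm_dvd]
      intro n hn
      rcases h21 n (hdv n hn) with rfl | rfl | rfl | rfl
      · norm_num
      · exact absurd hn h3
      · norm_num
      · have := (Multiset.single_le_sum (fun _ _ => Nat.zero_le _) _ hn).trans hsum
        omega
    rw [Equiv.Perm.lcm_cycleType, ho] at h1
    revert h1
    decide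
  have h37 : ({3, 7} : Multiset ℕ) ≤ σ.cycleType := by
    rw [Multiset.le_iff_subset (by decide)]
    intro n hn
    simp only [Multiset.insert_eq_cons, Multiset.mem_cons, Multiset.mem_singleton] at hn
    rcases hn with rfl | rfl
    · exact h3
    · exact h7
  obtain ⟨t, ht⟩ := Multiset.le_iff_exists_add.1 h37
  have h4 := congrArg Multiset.sum ht
  rw [Multiset.sum_add] at h4
  have h5 : ({3, 7} : Multiset ℕ).sum = 10 := by decide
  omega

section psl

variable {F : Type} [Field F] [Fintype F] [Fact (Nat.Prime 2)] [CharP F 2] {T : Type u} [Group T] [Finite T]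
  (e : T ≃* Matrix.ProjectiveSpecialLinearGroup (Fin 2) F)

include e

theorem card_sylows : Nat.card (Sylow 2 T) = Fintype.card F + 1 := by
  obtain ⟨P⟩ : Nonempty (Sylow 2 T) := inferInstance
  let Q : Sylow 2 (Matrix.ProjectiveSpecialLinearGroup (Fin 2) F) := P.mapSurjective (f := e.toMonoidHom) e.surjective
  rw [P.card_eq_index_normalizer, ← H436.TT.index_normalizer 2 Q]
  have h1 : Subgroup.normalizer ((Q : Subgroup (Matrix.ProjectiveSpecialLinearGroup (Fin 2) F)) : Set _) =
      (Subgroup.normalizer ((P : Subgroup T) : Set T)).map e.toMonoidHom :=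
    (Subgroup.map_equiv_normalizer_eq (P : Subgroup T) e).symm
  rw [h1, Subgroup.index_map_of_bijective e.bijective]
  rfl

end psl

section main

variable {H : Type u} [Group H] [Finite H] (S : Subgroup H) [S.Normal] [IsSimpleGroup S]
  (hc : centralizer (S : Set H) = ⊥)

include hc

/-- `H` is faithful on the Sylow subgroups of `S` -/
theorem faithful {p : ℕ} [Fact p.Prime] (h : Nat.card (Sylow p S) ≠ 1) :
    Function.Injective ((MulAction.toPermHom (MulAut S) (Sylow p S)).comp (MulAut.conjNormal : H →* MulAut S)) := by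
  set f := (MulAction.toPermHom (MulAut S) (Sylow p S)).comp (MulAut.conjNormal : H →* MulAut S) with hf
  rw [← MonoidHom.ker_eq_bot_iff]
  have h1 : f.ker.subgroupOf S = ⊥ := by
    rcases IsSimpleGroup.eq_bot_or_eq_top_of_normal (f.ker.subgroupOf S) inferInstance with h1 | h1
    · exact h1
    · exfalso
      apply h
      rw [Nat.card_eq_one_iff_unique]
      refine ⟨⟨fun P Q => ?_⟩, inferInstance⟩
      obtain ⟨g, hg⟩ := MulAction.exists_smul_eq S P Q
      rw [← hg]
      have h2 : (g : H) ∈ f.ker := by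
        have : g ∈ f.ker.subgroupOf S := by rw [h1]; exact mem_top _
        exact this
      rw [MonoidHom.mem_ker] at h2
      have h3 := DFunLike.congr_fun h2 P
      have h4 : (MulAut.conjNormal (g : H) : MulAut S) • P = P := h3
      have h5 : (MulAut.conjNormal (g : H) : MulAut S) = MulAut.conj g := by
        ext a
        rfl
      rw [h5] at h4
      exact h4.symm
  have h2 : Disjoint f.ker S := Subgroup.subgroupOf_eq_bot.1 h1
  rw [eq_bot_iff, ← hc]
  intro k hk
  rw [mem_centralizer_iff]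
  intro s hs
  exact (Subgroup.commute_of_normal_of_disjoint f.ker S inferInstance inferInstance h2 k s hk hs).symm

/-- **`L₂(8)`** -/
theorem no21b (hg : Real (.psl 2 8) S) {x : H} (hx : orderOf x = 21) : False := by
  obtain ⟨F, _, _, hF, ⟨e⟩⟩ := hg
  have : Fact (Nat.Prime 2) := ⟨Nat.prime_two⟩
  have hch : CharP F 2 := charP_of_card_eq_prime_pow (f := 3) (by rw [hF]; norm_num)
  have h9 : Nat.card (Sylow 2 S) = 9 := by rw [card_sylows e, hF]
  have h1 := faithful S hc (p := 2) (by rw [h9]; norm_num)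
  exact no_perm h9 _ ((orderOf_injective _ h1 x).trans hx)

/-- **`Sz(8)`** -/
theorem no21c (hna : ¬ IsMulCommutative S) (hg : IsNamed (.sz 8) S) (hb : Big S 7 21 6) {x : H}
    (hx : orderOf x = 21) : False := by
  obtain ⟨y, hyx, hy⟩ := exists_cube S hc (aut_sz8 hna hg.real) (n := 7) (by rw [hx]) (by norm_num)
  have hcard : Nat.card S = 29120 := by rw [hg.ord]; decide +kernel
  obtain ⟨F, _, _, m, hm, hF, h8, ⟨e⟩⟩ := hg.real
  have hm1 : m = 1 := by
    have h1 : 2 ^ (2 * m + 1) = 2 ^ 3 := h8.symm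
    have := Nat.pow_right_injective (le_refl 2) h1
    omega
  subst hm1
  have hF' : Fintype.card F = 2 ^ (2 * 1 + 1) := hF.trans h8
  -- the automorphism of order 3
  set φ : MulAut S := MulAut.conjNormal (x ^ 7) with hφ
  have hφ3 : φ ^ 3 = 1 := by
    rw [hφ, ← map_pow, ← pow_mul, show 7 * 3 = orderOf x by rw [hx], pow_orderOf_eq_one, map_one]
  have h3S : ¬ 3 ∣ Nat.card S := by rw [hcard]; norm_num
  have : Fact (Nat.Prime 5) := ⟨Nat.prime_five⟩
  have : Fact (Nat.Prime 7) := ⟨by norm_num⟩
  obtain ⟨R, hR⟩ := H389.Small.exists_fixed_sylow φ Nat.prime_three hφ3 h3S 5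
  have hR' : φ • (R : Subgroup S) = R := by
    rw [← Sylow.pointwise_smul_def, hR]
  have hR5 : Nat.card (R : Subgroup S) = 5 := by
    rw [R.card_eq_multiplicity, hcard, H904.SylOne.factorization_eq_one (p := 5) (by norm_num) (by norm_num)
      (by norm_num), pow_one]
  have h1 := H389.Small.card_inf_modEq φ (n := 1) Nat.prime_three (by rw [pow_one]; exact hφ3) (R : Subgroup S) hR'
  have h5M : 5 ∣ Nat.card (H389.Small.fix φ) := by
    have h2 : Nat.card ((R : Subgroup S) ⊓ H389.Small.fix φ : Subgroup S) ∣ 5 :=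
      (Subgroup.card_dvd_of_le inf_le_left).trans hR5.dvd
    rcases (Nat.dvd_prime Nat.prime_five).1 h2 with h3 | h3
    · rw [hR5, h3] at h1
      have h4 : 5 % 3 = 1 % 3 := h1
      omega
    · exact h3.symm.dvd.trans (Subgroup.card_dvd_of_le inf_le_right)
  set M := H389.Small.fix φ with hM
  have hyM : y ∈ M := by
    rw [hM, H389.Small.mem_fix]
    apply Subtype.ext
    rw [hφ, MulAut.conjNormal_apply, hyx, ← zpow_natCast, ← zpow_natCast]
    group
  have hMt : M ≠ ⊤ := by
    intro h
    have h2 := H389.Small.eq_one_of_fix h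
    have h3 : x ^ 7 ∈ centralizer (S : Set H) := by
      rw [mem_centralizer_iff]
      intro s hs
      have h4 := congrArg Subtype.val (DFunLike.congr_fun h2 ⟨s, hs⟩)
      rw [hφ, MulAut.conjNormal_apply, MulAut.one_apply] at h4
      exact (mul_inv_eq_iff_eq_mul.1 h4).symm
    rw [hc, mem_bot] at h3
    have h4 := orderOf_dvd_of_pow_eq_one h3
    rw [hx] at h4
    revert h4
    decide
  have h7M : 7 ∣ Nat.card M := by
    have h2 := orderOf_dvd_natCard (⟨y, hyM⟩ : M)
    rwa [Subgroup.orderOf_mk, hy] at h2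
  -- the order of `M`
  have h35 : Nat.card M ∣ 35 := by
    let i : S ≃* Cfsg.Sz F 1 := e.trans ((MonoidHom.ofInjective OddCyclic.ClaimC.SzIso.jj_injective).trans
      (MulEquiv.subgroupCongr (OddCyclic.ClaimC.SzIso.range_eq hm hF').symm)).symm
    have hMi : Nat.card (M.map i.toMonoidHom) = Nat.card M := Subgroup.card_map_of_injective i.injective
    have hSi : Nat.card (Cfsg.Sz F 1) = 29120 := by rw [← hcard]; exact (Nat.card_congr i.toEquiv).symm
    obtain ⟨v, w, hv, hw, hvw, h2, h3, h4, h5, -⟩ := H221.Der.sz_two_primes hm hF' (M.map i.toMonoidHom) (by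
      intro h
      apply hMt
      rw [eq_top_iff]
      intro s _
      have h6 : i s ∈ M.map i.toMonoidHom := by rw [h]; exact mem_top _
      obtain ⟨t, ht, hts⟩ := h6
      have h7 : t = s := i.injective hts
      rwa [← h7])
    rw [hMi] at h4 h5
    rw [hSi] at h2 h3
    have hd : Nat.card M ∣ 29120 := by rw [← hcard]; exact Subgroup.card_subgroup_dvd_card M
    have hpr : ∀ r : ℕ, r.Prime → r ∣ 29120 → ¬ r ∣ Nat.card M → r = 2 ∨ r = 13 := by
      intro r hr h6 h7
      have h8 : r ∈ Nat.primeFactors 29120 := Nat.mem_primeFactors.2 ⟨hr, h6, by norm_num⟩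
      have h9 : ∀ s ∈ Nat.primeFactors 29120, s = 2 ∨ s = 5 ∨ s = 7 ∨ s = 13 := by decide +kernel
      rcases h9 r h8 with rfl | rfl | rfl | rfl
      · exact Or.inl rfl
      · exact absurd h5M h7
      · exact absurd h7M h7
      · exact Or.inr rfl
    have h213 : ¬ 2 ∣ Nat.card M ∧ ¬ 13 ∣ Nat.card M := by
      rcases hpr v hv h2 h4 with rfl | rfl <;> rcases hpr w hw h3 h5 with rfl | rfl
      · exact absurd rfl hvw
      · exact ⟨h4, h5⟩
      · exact ⟨h5, h4⟩
      · exact absurd rfl hvw
    have h6 : Nat.card M ∣ 2 ^ 6 * (13 * 35) := by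
      have : (2 : ℕ) ^ 6 * (13 * 35) = 29120 := by norm_num
      rw [this]
      exact hd
    have h7 := Nat.Coprime.dvd_of_dvd_mul_left
      (Nat.Coprime.pow_right 6 ((Nat.Prime.coprime_iff_not_dvd Nat.prime_two).2 h213.1).symm) h6
    exact Nat.Coprime.dvd_of_dvd_mul_left
      ((Nat.Prime.coprime_iff_not_dvd (by norm_num)).2 h213.2).symm h7
  have hc35 : Nat.card M = 35 := Nat.dvd_antisymm h35
    (Nat.Coprime.mul_dvd_of_dvd_of_dvd (by norm_num : Nat.Coprime 5 7) h5M h7M)
  -- the centralizer of `y`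
  obtain ⟨K, e', s, he', hK, hs, hmod, -⟩ := H904.SylOne.main (T := M) (p := 7) (x := ⟨y, hyM⟩)
    (by rw [hc35]; norm_num) (by rw [Subgroup.orderOf_mk, hy])
  rw [hc35] at hs
  have h2 : K * e' * s = 5 := by
    have : 7 * K * e' * s = 7 * (K * e' * s) := by ring
    omega
  have hs5 : s ∣ 5 := ⟨K * e', by rw [← h2]; ring⟩
  have hs1 : s = 1 := by
    rcases (Nat.dvd_prime Nat.prime_five).1 hs5 with h3 | h3
    · exact h3
    · rw [h3] at hmod
      have h4 : 5 % 7 = 1 % 7 := hmod
      omega
  subst hs1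
  have he5 : e' ∣ 5 := ⟨K, by rw [← h2]; ring⟩
  have he1 : e' = 1 := by
    rcases (Nat.dvd_prime Nat.prime_five).1 he5 with h3 | h3
    · exact h3
    · rw [h3] at he'
      omega
  subst he1
  have hK5 : K = 5 := by omega
  rw [hK5] at hK
  have h3 : Nat.card (centralizer ({⟨y, hyM⟩} : Set M)) ∣ Nat.card (centralizer ({y} : Set S)) := by
    let f : ↥(centralizer ({⟨y, hyM⟩} : Set M)) →* ↥(centralizer ({y} : Set S)) :=
      (M.subtype.comp (centralizer ({⟨y, hyM⟩} : Set M)).subtype).codRestrict _ fun a => by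
        have h4 := a.2
        rw [mem_centralizer_singleton_iff] at h4 ⊢
        exact congrArg Subtype.val h4
    refine Subgroup.card_dvd_of_injective f fun a b hab => ?_
    have h4 : ((f a : S)) = f b := congrArg Subtype.val hab
    exact Subtype.ext (Subtype.ext h4)
  rw [hK] at h3
  have h4 := h3.trans (hb.card y hy)
  revert h4
  decide

end main

end Cfsg.Agent.H420.G2U
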