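import Cfsg.Agent.H420.G2U.Oct

/-!
# Subgroups `SL₃`, `SU₃` of `G₂`, II: elements of long type (helper420, row G2(q) of S3938)

`Lng y ε` : `y` is semisimple and its fixed space on the octonions is spanned by the idempotent `ε` and the identity.
`exists_eps` : the criterion.
-/

set_option autoImplicit false
set_option linter.unusedSimpArgs false

namespace Cfsg.Agent.H420.G2U

open Cfsg.Lie Cfsg.Agent.H161.Oct

variable {K : Type*} [Field K]

/-- long type -/
def Lng (y : V K ≃ₗ[K] V K) (ε : V K) : Prop :=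
  ∃ h ∈ AutO K, h ε = e1 ∧ ∃ a b c : K, a * b * c = 1 ∧ a ≠ 1 ∧ b ≠ 1 ∧ c ≠ 1 ∧ ∀ x, (h * y * h⁻¹) x = dF a b c x

theorem inv_apply_self (h : V K ≃ₗ[K] V K) (x : V K) : h⁻¹ (h x) = x := h.symm_apply_apply x
theorem apply_inv_self (h : V K ≃ₗ[K] V K) (x : V K) : h (h⁻¹ x) = x := h.apply_symm_apply x

/-- the fixed vectors of `dF a b c` -/
theorem fix_dF {a b c : K} (h0 : a * b * c = 1) (ha : a ≠ 1) (hb : b ≠ 1) (hc : c ≠ 1) {x : V K} (h : dF a b c x = x) :
    x 1 = 0 ∧ x 2 = 0 ∧ x 3 = 0 ∧ x 4 = 0 ∧ x 5 = 0 ∧ x 6 = 0 := by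
  have ha0 : a ≠ 0 := by rintro rfl; simp at h0
  have hb0 : b ≠ 0 := by rintro rfl; simp at h0
  have hc0 : c ≠ 0 := by rintro rfl; simp at h0
  have key : ∀ {t u : K}, t ≠ 1 → t * u = u → u = 0 := by
    intro t u ht h
    have : (t - 1) * u = 0 := by linear_combination h
    exact (mul_eq_zero.1 this).resolve_left (sub_ne_zero.2 ht)
  have inv1 : ∀ {t : K}, t ≠ 1 → t⁻¹ ≠ 1 := fun ht h => ht (inv_eq_one.1 h)
  refine ⟨key ha ?_, key hb ?_, key hc ?_, key (inv1 ha) ?_, key (inv1 hb) ?_, key (inv1 hc) ?_⟩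
  · exact congrFun h 1
  · exact congrFun h 2
  · exact congrFun h 3
  · exact congrFun h 4
  · exact congrFun h 5
  · exact congrFun h 6

/-- the idempotents in the span of `e1` and `o` -/
theorem idem_cases {x : V K} (h1 : x 1 = 0) (h2 : x 2 = 0) (h3 : x 3 = 0) (ht : tr x = 1) (hn : nm x = 0) :
    (x 0 = 1 ∧ x 7 = 0) ∨ (x 0 = 0 ∧ x 7 = 1) := by
  rw [nm, h1, h2, h3] at hn
  rw [tr] at ht
  have h : x 0 * x 7 = 0 := by linear_combination hn
  rcases mul_eq_zero.1 h with h | h
  · right; exact ⟨h, by rw [h] at ht; linear_combination ht⟩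
  · left; exact ⟨by rw [h] at ht; linear_combination ht, h⟩

namespace Lng

variable {y : V K ≃ₗ[K] V K} {ε : V K}

theorem idem (h : Lng y ε) : tr ε = 1 ∧ nm ε = 0 := by
  obtain ⟨h, hh, he, -⟩ := h
  constructor
  · rw [← map_tr hh, he]; simp [tr, e1]
  · rw [← map_nm hh, he]; simp [nm, e1]

theorem fixed (hl : Lng y ε) : y ε = ε := by
  obtain ⟨h, hh, he, a, b, c, h0, ha, hb, hc, hy⟩ := hl
  have h1 := hy e1
  have h2 : dF a b c (e1 : V K) = e1 := by apply ext8 <;> simp [dF, e1]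
  rw [h2, LinearEquiv.mul_apply, LinearEquiv.mul_apply, ← he, inv_apply_self] at h1
  exact h.injective h1

theorem span (hl : Lng y ε) {x : V K} (hx : y x = x) : ∃ α β : K, x = α • ε + β • o := by
  obtain ⟨h, hh, he, a, b, c, h0, ha, hb, hc, hy⟩ := hl
  have h1 := hy (h x)
  rw [LinearEquiv.mul_apply, LinearEquiv.mul_apply, inv_apply_self, hx] at h1
  obtain ⟨e1', e2, e3, e4, e5, e6⟩ := fix_dF h0 ha hb hc h1.symm
  refine ⟨h x 0 - h x 7, h x 7, ?_⟩
  apply h.injective
  rw [map_add, map_smul, map_smul, he, map_o hh]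
  apply ext8 <;> simp [e1', e2, e3, e4, e5, e6, e1, o]

/-- **The centralizer of an element of long type fixes the idempotent.** -/
theorem fix (hl : Lng y ε) {g : V K ≃ₗ[K] V K} (hg : g ∈ AutO K) (hgy : g * y = y * g) : g ε = ε := by
  obtain ⟨h, hh, he, a, b, c, h0, ha, hb, hc, hy⟩ := hl
  have ha0 : a ≠ 0 := by rintro rfl; simp at h0
  have hb0 : b ≠ 0 := by rintro rfl; simp at h0
  have hc0 : c ≠ 0 := by rintro rfl; simp at h0
  set G : V K ≃ₗ[K] V K := h * g * h⁻¹ with hG
  set Y : V K ≃ₗ[K] V K := h * y * h⁻¹ with hY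
  have Gm : G ∈ AutO K := (AutO K).mul_mem ((AutO K).mul_mem hh hg) ((AutO K).inv_mem hh)
  have comm : G * Y = Y * G := by
    calc G * Y = h * (g * y) * h⁻¹ := by rw [hG, hY]; group
      _ = h * (y * g) * h⁻¹ := by rw [hgy]
      _ = Y * G := by rw [hG, hY]; group
  have cx : ∀ x, G (Y x) = Y (G x) := fun x => congrArg (fun r : V K ≃ₗ[K] V K => r x) comm
  have hgoal : G e1 = e1 → g ε = ε := by
    intro h1
    apply h.injective
    have h2 : G (h ε) = h (g ε) := by
      rw [hG, LinearEquiv.mul_apply, LinearEquiv.mul_apply, inv_apply_self]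
    rw [← h2, he, h1]
  apply hgoal
  have Ye1 : Y e1 = e1 := by rw [hy]; apply ext8 <;> simp [dF, e1]
  have hW : dF a b c (G e1) = G e1 := by rw [← hy, ← cx, Ye1]
  obtain ⟨w1, w2, w3, w4, w5, w6⟩ := fix_dF h0 ha hb hc hW
  rcases idem_cases w1 w2 w3 (by rw [map_tr Gm]; simp [tr, e1]) (by rw [map_nm Gm]; simp [nm, e1]) with
    ⟨w0, w7⟩ | ⟨w0, w7⟩
  · apply ext8 <;> simp only [w0, w1, w2, w3, w4, w5, w6, w7, e1_0, e1_1, e1_2, e1_3, e1_4, e1_5, e1_6, e1_7]
  · exfalso
    have hGe : G e1 = Pi.single 7 1 := by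
      apply ext8 <;> simp [w0, w1, w2, w3, w4, w5, w6, w7]
    -- the images of the vectors 1, 2, 3
    have key : ∀ (v : V K) (l : K), v ≠ 0 → zornMul e1 v = v → zornMul v e1 = 0 → Y v = l • v →
        l * a = 1 ∨ l * b = 1 ∨ l * c = 1 := by
      intro v l hv0 hv1 hv2 hvl
      have m1 := congrArg G hv1
      have m2 := congrArg G hv2
      rw [mem_AutO.1 Gm, hGe] at m1 m2
      rw [map_zero] at m2
      have q0 := congrFun m1 0
      have q1 := congrFun m1 1
      have q2 := congrFun m1 2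
      have q3 := congrFun m1 3
      have q7 := congrFun m2 7
      rw [mul0] at q0
      rw [mul1] at q1
      rw [mul2] at q2
      rw [mul3] at q3
      rw [mul7] at q7
      simp at q0 q1 q2 q3 q7
      have hq : dF a b c (G v) = l • G v := by rw [← hy, ← cx, hvl, map_smul]
      have r4 := congrFun hq 4
      have r5 := congrFun hq 5
      have r6 := congrFun hq 6
      rw [dF4, Pi.smul_apply, smul_eq_mul] at r4
      rw [dF5, Pi.smul_apply, smul_eq_mul] at r5
      rw [dF6, Pi.smul_apply, smul_eq_mul] at r6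
      by_contra hcon
      push Not at hcon
      obtain ⟨c1, c2, c3⟩ := hcon
      have z4 : G v 4 = 0 := by
        have : (l * a - 1) * G v 4 = 0 := by
          have : a * (a⁻¹ * G v 4) = a * (l * G v 4) := by rw [r4]
          rw [mul_inv_cancel_left₀ ha0] at this
          linear_combination -this
        exact (mul_eq_zero.1 this).resolve_left (sub_ne_zero.2 c1)
      have z5 : G v 5 = 0 := by
        have : (l * b - 1) * G v 5 = 0 := by
          have : b * (b⁻¹ * G v 5) = b * (l * G v 5) := by rw [r5]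
          rw [mul_inv_cancel_left₀ hb0] at this
          linear_combination -this
        exact (mul_eq_zero.1 this).resolve_left (sub_ne_zero.2 c2)
      have z6 : G v 6 = 0 := by
        have : (l * c - 1) * G v 6 = 0 := by
          have : c * (c⁻¹ * G v 6) = c * (l * G v 6) := by rw [r6]
          rw [mul_inv_cancel_left₀ hc0] at this
          linear_combination -this
        exact (mul_eq_zero.1 this).resolve_left (sub_ne_zero.2 c3)
      apply hv0
      apply G.injective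
      rw [map_zero]
      apply ext8 <;> simp [← q0, ← q1, ← q2, ← q3, z4, z5, z6, q7]
    have k1 := key (Pi.single 1 1) a (by intro h; have := congrFun h 1; simp at this) (by
      rw [e1_mul]; apply ext8 <;> simp) (by rw [mul_e1]; apply ext8 <;> simp) (by
      rw [hy]; apply ext8 <;> simp [dF])
    have k2 := key (Pi.single 2 1) b (by intro h; have := congrFun h 2; simp at this) (by
      rw [e1_mul]; apply ext8 <;> simp) (by rw [mul_e1]; apply ext8 <;> simp) (by
      rw [hy]; apply ext8 <;> simp [dF])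
    have k3 := key (Pi.single 3 1) c (by intro h; have := congrFun h 3; simp at this) (by
      rw [e1_mul]; apply ext8 <;> simp) (by rw [mul_e1]; apply ext8 <;> simp) (by
      rw [hy]; apply ext8 <;> simp [dF])
    -- arithmetic
    have nab : a * b ≠ 1 := fun h => hc (by rw [h, one_mul] at h0; exact h0)
    have nac : a * c ≠ 1 := fun h => hb (by
      have : a * b * c = b := by linear_combination b * h
      rw [← this, h0])
    have nbc : b * c ≠ 1 := fun h => ha (by
      have : a * b * c = a := by linear_combination a * h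
      rw [← this, h0])
    have a2 : a * a = 1 := by
      rcases k1 with k | k | k
      · exact k
      · exact absurd k nab
      · exact absurd k nac
    have b2 : b * b = 1 := by
      rcases k2 with k | k | k
      · exact absurd (by rw [mul_comm]; exact k) nab
      · exact k
      · exact absurd k nbc
    have c2 : c * c = 1 := by
      rcases k3 with k | k | k
      · exact absurd (by rw [mul_comm]; exact k) nac
      · exact absurd (by rw [mul_comm]; exact k) nbc
      · exact k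
    have sq : ∀ t : K, t * t = 1 → t ≠ 1 → t = -1 := by
      intro t ht ht1
      have : (t - 1) * (t + 1) = 0 := by linear_combination ht
      exact eq_neg_of_add_eq_zero_left ((mul_eq_zero.1 this).resolve_left (sub_ne_zero.2 ht1))
    rw [sq a a2 ha, sq b b2 hb, sq c c2 hc] at h0
    apply ha
    rw [sq a a2 ha]
    linear_combination h0

theorem conj (hl : Lng y ε) {g : V K ≃ₗ[K] V K} (hg : g ∈ AutO K) : Lng (g * y * g⁻¹) (g ε) := by
  obtain ⟨h, hh, he, a, b, c, h0, ha, hb, hc, hy⟩ := hl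
  refine ⟨h * g⁻¹, (AutO K).mul_mem hh ((AutO K).inv_mem hg), ?_, a, b, c, h0, ha, hb, hc, fun x => ?_⟩
  · rw [LinearEquiv.mul_apply, inv_apply_self, he]
  · rw [← hy]
    have : h * g⁻¹ * (g * y * g⁻¹) * (h * g⁻¹)⁻¹ = h * y * h⁻¹ := by group
    rw [this]

/-- commuting elements of long type have related idempotents -/
theorem comm {y' : V K ≃ₗ[K] V K} {ε' : V K} (hl : Lng y ε) (hl' : Lng y' ε') (hy' : y' ∈ AutO K)
    (hyy : y' * y = y * y') {g : V K ≃ₗ[K] V K} (hg : g ∈ AutO K) (hgε : g ε' = ε') : g ε = ε := by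
  obtain ⟨α, β, h⟩ := hl'.span (hl.fix hy' hyy)
  rw [h, map_add, map_smul, map_smul, hgε, map_o hg]

end Lng

section Exists

variable {p : ℕ} [Fact p.Prime] [CharP K p]

/-- the cyclic permutation of the coordinates -/
theorem exists_rot (K : Type*) [Field K] : ∃ r ∈ AutO K, ∀ (a b c : K) (x : V K), r (dF a b c x) = dF b c a (r x) := by
  have hdet : (!![0, 1, 0; 0, 0, 1; 1, 0, 0] : Matrix (Fin 3) (Fin 3) K).det = 1 := by
    rw [Matrix.det_fin_three]; simp
  refine ⟨sl !![0, 1, 0; 0, 0, 1; 1, 0, 0] hdet, sl_mem _ _, fun a b c x => ?_⟩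
  rw [sl_apply, sl_apply]
  apply ext8 <;> simp [slF0, slF1, slF2, slF3, slF4, slF5, slF6, slF7, dF]

/-- **Existence of the long type.** -/
theorem exists_lng [IsAlgClosed K] (h3 : (3 : K) ≠ 0) {y z u v : V K ≃ₗ[K] V K} (hyA : y ∈ AutO K) (hz : z ∈ AutO K)
    (hu : u ∈ AutO K) (hv : v ∈ AutO K) {m : ℕ} (hm : (m : K) ≠ 0) (hym : y ^ m = 1)
    (hdet : LinearMap.det (y : V K →ₗ[K] V K) = 1) (hy2 : y ^ 2 ≠ 1) (hzy : z * y = y * z) {k : ℕ}
    (hzk : z ^ p ^ k = 1) (hz1 : z ≠ 1) (hzu : z * u = u * z) (hzv : z * v = v * z) (huv : z * (v * u) = u * v) :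
    ∃ ε, Lng y ε := by
  obtain ⟨h, hh, a, b, c, h0, hy⟩ := exists_diag hyA hm hym hdet
  have hyF : ∀ x, (h * y * h⁻¹) x = dF a b c x := hy
  -- the middle entry one
  have mid : ∀ (g : V K ≃ₗ[K] V K), g ∈ AutO K → ∀ a c : K, a * 1 * c = 1 → (∀ x, (g * y * g⁻¹) x = dF a 1 c x) → False := by
    intro g hg a c h0 hy
    have ha0 : a ≠ 0 := by rintro rfl; simp at h0
    have hc : c = a⁻¹ := by
      apply eq_inv_of_mul_eq_one_right
      rw [mul_one] at h0
      exact h0
    subst hc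
    have cj : ∀ {s t : V K ≃ₗ[K] V K}, s * t = t * s → (g * s * g⁻¹) * (g * t * g⁻¹) = (g * t * g⁻¹) * (g * s * g⁻¹) := by
      intro s t hst
      calc (g * s * g⁻¹) * (g * t * g⁻¹) = g * (s * t) * g⁻¹ := by group
        _ = g * (t * s) * g⁻¹ := by rw [hst]
        _ = _ := by group
    have mem : ∀ {s : V K ≃ₗ[K] V K}, s ∈ AutO K → g * s * g⁻¹ ∈ AutO K := fun hs =>
      (AutO K).mul_mem ((AutO K).mul_mem hg hs) ((AutO K).inv_mem hg)
    refine not_short (y := g * y * g⁻¹) (z := g * z * g⁻¹) (u := g * u * g⁻¹) (v := g * v * g⁻¹) (a := a) (k := k)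
      (p := p) h3 ha0 ?_ hy (mem hz) (mem hu) (mem hv) (cj hzy) (by rw [conj_pow, hzk, mul_one, mul_inv_cancel]) ?_
      (cj hzu) (cj hzv) ?_
    · intro ha2
      apply hy2
      have h1 : (g * y * g⁻¹) ^ 2 = 1 := by
        apply eq_one_of_single
        intro i
        rw [pow_two, LinearEquiv.mul_apply, hy, hy]
        have haa : a * a = 1 := by rw [← pow_two]; exact ha2
        have hai : a⁻¹ = a := inv_eq_of_mul_eq_one_right haa
        apply ext8 <;> simp [dF, hai, ← mul_assoc, haa]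
      rw [conj_pow] at h1
      calc y ^ 2 = g⁻¹ * (g * y ^ 2 * g⁻¹) * g := by group
        _ = 1 := by rw [h1]; group
    · intro h1
      apply hz1
      calc z = g⁻¹ * (g * z * g⁻¹) * g := by group
        _ = 1 := by rw [h1]; group
    · calc (g * z * g⁻¹) * ((g * v * g⁻¹) * (g * u * g⁻¹)) = g * (z * (v * u)) * g⁻¹ := by group
        _ = g * (u * v) * g⁻¹ := by rw [huv]
        _ = _ := by group
  obtain ⟨r, hr, hrot⟩ := exists_rot K
  have rot : ∀ (g : V K ≃ₗ[K] V K) (a b c : K), (∀ x, (g * y * g⁻¹) x = dF a b c x) →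
      ∀ x, ((r * g) * y * (r * g)⁻¹) x = dF b c a x := by
    intro g a b c hgy x
    have h1 : (r * g) * y * (r * g)⁻¹ = r * (g * y * g⁻¹) * r⁻¹ := by group
    rw [h1, LinearEquiv.mul_apply, LinearEquiv.mul_apply, hgy, hrot, apply_inv_self]
  have hrh : r * h ∈ AutO K := (AutO K).mul_mem hr hh
  have hrrh : r * (r * h) ∈ AutO K := (AutO K).mul_mem hr hrh
  by_cases hb : b = 1
  · subst hb
    exact (mid h hh a c h0 hyF).elim
  by_cases hc : c = 1
  · subst hc
    exact (mid (r * h) hrh b a (by linear_combination h0) (rot h a b 1 hyF)).elim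
  by_cases ha : a = 1
  · subst ha
    exact (mid (r * (r * h)) hrrh c b (by linear_combination h0) (rot (r * h) b c 1 (rot h 1 b c hyF))).elim
  exact ⟨h⁻¹ e1, h, hh, apply_inv_self _ _, a, b, c, h0, ha, hb, hc, hyF⟩

/-- the hypotheses on an element -/
structure Good {S : Type*} [Group S] (ρ : S →* ↥(AutO K)) (p : ℕ) (y : S) : Prop where
  sq : ρ y ^ 2 ≠ 1
  ord : ∃ m : ℕ, (m : K) ≠ 0 ∧ y ^ m = 1
  ex : ∃ z u v : S, z * y = y * z ∧ (∃ k : ℕ, z ^ p ^ k = 1) ∧ ρ z ≠ 1 ∧ z * u = u * z ∧ z * v = v * z ∧ z * (v * u) = u * v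

theorem Good.lng [IsAlgClosed K] (h3 : (3 : K) ≠ 0) {S : Type*} [Group S] {ρ : S →* ↥(AutO K)}
    (hdet : ∀ s, LinearMap.det ((ρ s).1 : V K →ₗ[K] V K) = 1) {y : S} (h : Good ρ p y) : ∃ ε, Lng (ρ y).1 ε := by
  obtain ⟨m, hm, hym⟩ := h.ord
  obtain ⟨z, u, v, hzy, ⟨k, hzk⟩, hz1, hzu, hzv, huv⟩ := h.ex
  have tr : ∀ {s t : S}, s = t → (ρ s).1 = (ρ t).1 := fun h => by rw [h]
  refine exists_lng (p := p) (k := k) (z := (ρ z).1) (u := (ρ u).1) (v := (ρ v).1) (m := m) h3 (ρ y).2 (ρ z).2 (ρ u).2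
    (ρ v).2 hm ?_ (hdet y) ?_ ?_ ?_ ?_ ?_ ?_ ?_
  · have := tr hym
    rwa [map_pow, map_one] at this
  · intro h1
    apply h.sq
    apply Subtype.ext
    exact h1
  · have := tr hzy
    rwa [map_mul, map_mul] at this
  · have := tr hzk
    rwa [map_pow, map_one] at this
  · intro h1
    exact hz1 (Subtype.ext h1)
  · have := tr hzu
    rwa [map_mul, map_mul] at this
  · have := tr hzv
    rwa [map_mul, map_mul] at this
  · have := tr huv
    rwa [map_mul, map_mul, map_mul] at this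

/-- **The criterion.** -/
theorem exists_eps [IsAlgClosed K] (h3 : (3 : K) ≠ 0) {S : Type*} [Group S] {ρ : S →* ↥(AutO K)}
    (hdet : ∀ s, LinearMap.det ((ρ s).1 : V K →ₗ[K] V K) = 1) {y y' : S} (h : Good ρ p y) (h' : Good ρ p y')
    (hyy : y' * y = y * y') (hgen : Subgroup.closure ({g | g * y = y * g} ∪ {g | g * y' = y' * g}) = ⊤) :
    ∃ ε, Lng (ρ y).1 ε ∧ ∀ s, (ρ s).1 ε = ε := by
  obtain ⟨ε, hε⟩ := h.lng h3 hdet
  obtain ⟨ε', hε'⟩ := h'.lng h3 hdet
  refine ⟨ε, hε, fun s => ?_⟩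
  have cm : ∀ {s t : S}, s * t = t * s → (ρ s).1 * (ρ t).1 = (ρ t).1 * (ρ s).1 := by
    intro s t hst
    have := congrArg (fun r => (ρ r).1) hst
    simp only [map_mul] at this
    exact this
  have hs : s ∈ Subgroup.closure ({g | g * y = y * g} ∪ {g | g * y' = y' * g}) := by rw [hgen]; trivial
  induction hs using Subgroup.closure_induction with
  | mem g hg =>
    rcases hg with hg | hg
    · exact hε.fix (ρ g).2 (cm hg)
    · exact hε.comm hε' (ρ y').2 (cm hyy) (ρ g).2 (hε'.fix (ρ g).2 (cm hg))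
  | one => rw [map_one]; rfl
  | mul a b _ _ iha ihb =>
    rw [map_mul]
    show (ρ a).1 ((ρ b).1 ε) = ε
    rw [ihb, iha]
  | inv a _ iha =>
    rw [map_inv]
    show (ρ a).1⁻¹ ε = ε
    conv_lhs => rw [← iha]
    rw [inv_apply_self]

end Exists

end Cfsg.Agent.H420.G2U
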