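import Cfsg.Agent.H161.OctDiag
import Cfsg.Agent.H161.OctMixed2
import Cfsg.Agent.H148.Oct.Trans

/-!
# Subgroups `SL₃`, `SU₃` of `G₂`, I: the octonions (helper420, row G2(q) of S3938)

`comm_tau` : in characteristic `≠ 3` an automorphism commuting with the short root element `tau ![0, s, 0]` fixes the
basis vector `2` and adds a multiple of it to `e1`.
-/

set_option autoImplicit false
set_option linter.unusedSimpArgs false

namespace Cfsg.Agent.H420.G2U

open Cfsg.Lie Cfsg.Agent.H161.Oct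

variable {K : Type*} [Field K]

/-- a vector fixed by `tau ![0, s, 0]` -/
theorem fixv {s : K} (hs : s ≠ 0) {x : V K} (h : tauF ![0, s, 0] x = x) : x 1 = 0 ∧ x 3 = 0 ∧ x 5 = 0 ∧ x 7 = x 0 := by
  have h0 := congrFun h 0
  have h2 := congrFun h 2
  have h4 := congrFun h 4
  have h6 := congrFun h 6
  rw [tau0] at h0
  rw [tau2] at h2
  rw [tau4] at h4
  rw [tau6] at h6
  simp only [Matrix.cons_val_zero, Matrix.cons_val_one, Matrix.cons_val] at h0 h2 h4 h6
  have e5 : x 5 = 0 := by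
    have : s * x 5 = 0 := by linear_combination h0
    exact (mul_eq_zero.1 this).resolve_left hs
  have e3 : x 3 = 0 := by
    have : s * x 3 = 0 := by linear_combination -h4
    exact (mul_eq_zero.1 this).resolve_left hs
  have e1' : x 1 = 0 := by
    have : s * x 1 = 0 := by linear_combination h6
    exact (mul_eq_zero.1 this).resolve_left hs
  refine ⟨e1', e3, e5, ?_⟩
  have : s * (x 7 - x 0) = 0 := by rw [e5] at h2; linear_combination h2
  exact sub_eq_zero.1 ((mul_eq_zero.1 this).resolve_left hs)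

/-- **Centralizer of a short root element** -/
theorem comm_tau (h3 : (3 : K) ≠ 0) {s : K} (hs : s ≠ 0) {g : V K ≃ₗ[K] V K} (hg : g ∈ AutO K)
    (hc : ∀ x, g (tauF ![0, s, 0] x) = tauF ![0, s, 0] (g x)) :
    g (Pi.single 2 1) = Pi.single 2 1 ∧ g e1 = e1 + (g e1 2) • Pi.single 2 1 := by
  have t4 : tauF ![0, s, 0] (Pi.single 4 1 : V K) = Pi.single 4 1 := by
    apply ext8 <;> simp [tau0, tau1, tau2, tau3, tau4, tau5, tau6, tau7]
  have t6 : tauF ![0, s, 0] (Pi.single 6 1 : V K) = Pi.single 6 1 := by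
    apply ext8 <;> simp [tau0, tau1, tau2, tau3, tau4, tau5, tau6, tau7]
  have t3 : tauF ![0, s, 0] (Pi.single 3 1 : V K) = Pi.single 3 1 - s • Pi.single 4 1 := by
    apply ext8 <;> simp [tau0, tau1, tau2, tau3, tau4, tau5, tau6, tau7]
  have t1 : tauF ![0, s, 0] (Pi.single 1 1 : V K) = Pi.single 1 1 + s • Pi.single 6 1 := by
    apply ext8 <;> simp [tau0, tau1, tau2, tau3, tau4, tau5, tau6, tau7]
  have te : tauF ![0, s, 0] (e1 : V K) = e1 - s • Pi.single 2 1 := by
    apply ext8 <;> simp [tau0, tau1, tau2, tau3, tau4, tau5, tau6, tau7, e1_0, e1_1, e1_2, e1_3, e1_4, e1_5, e1_6, e1_7]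
  -- the images of the vectors 4 and 6
  have f4 := fixv hs (x := g (Pi.single 4 1)) (by rw [← hc, t4])
  have f6 := fixv hs (x := g (Pi.single 6 1)) (by rw [← hc, t6])
  have n4 : nm (g (Pi.single 4 1)) = 0 := by rw [map_nm hg]; simp [nm]
  have n6 : nm (g (Pi.single 6 1)) = 0 := by rw [map_nm hg]; simp [nm]
  set P : V K := g (Pi.single 4 1) with hP
  set Q : V K := g (Pi.single 6 1) with hQ
  obtain ⟨p1, p3, p5, p7⟩ := f4
  obtain ⟨q1, q3, q5, q7⟩ := f6
  have p0 : P 0 = 0 := by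
    rw [nm, p1, p3, p5, p7] at n4
    have : P 0 * P 0 = 0 := by linear_combination n4
    exact mul_self_eq_zero.1 this
  have q0 : Q 0 = 0 := by
    rw [nm, q1, q3, q5, q7] at n6
    have : Q 0 * Q 0 = 0 := by linear_combination n6
    exact mul_self_eq_zero.1 this
  rw [p0] at p7
  rw [q0] at q7
  -- the image of the vector 2
  have m46 : zornMul (Pi.single 4 1 : V K) (Pi.single 6 1) = Pi.single 2 1 := by
    apply ext8 <;> simp [mul0, mul1, mul2, mul3, mul4, mul5, mul6, mul7]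
  have g2 : g (Pi.single 2 1) = (P 4 * Q 6 - P 6 * Q 4) • Pi.single 2 1 := by
    rw [← m46, mem_AutO.1 hg, ← hP, ← hQ]
    apply ext8 <;> simp [mul0, mul1, mul2, mul3, mul4, mul5, mul6, mul7, p0, p1, p3, p5, p7, q0, q1, q3, q5, q7]
  set k : K := P 4 * Q 6 - P 6 * Q 4 with hk
  have hk0 : k ≠ 0 := by
    intro h
    rw [h, zero_smul] at g2
    have h1 := g.injective (g2.trans (map_zero g).symm)
    have := congrFun h1 2
    simp at this
  -- the image of `e1`
  set W : V K := g e1 with hW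
  have hw := hc e1
  rw [te, map_sub, map_smul, g2, ← hW] at hw
  have w0 := congrFun hw 0
  have w2 := congrFun hw 2
  have w4 := congrFun hw 4
  have w6 := congrFun hw 6
  rw [tau0] at w0
  rw [tau2] at w2
  rw [tau4] at w4
  rw [tau6] at w6
  simp [Matrix.cons_val_zero, Matrix.cons_val_one, Matrix.cons_val] at w0 w2 w4 w6
  have W5 : W 5 = 0 := w0.resolve_left hs
  have W3 : W 3 = 0 := by
    have : s * W 3 = 0 := by linear_combination w4
    exact (mul_eq_zero.1 this).resolve_left hs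
  have W1 : W 1 = 0 := w6.resolve_left hs
  rw [W5] at w2
  have W70 : W 7 = W 0 - k := by
    have : s * (W 7 - W 0 + k) = 0 := by linear_combination -w2
    have := (mul_eq_zero.1 this).resolve_left hs
    linear_combination this
  have ht : W 0 + W 7 = 1 := by
    have : tr W = tr (e1 : V K) := map_tr hg _
    rw [tr, tr, e1_0, e1_7, add_zero] at this
    exact this
  have me2 : zornMul e1 (Pi.single 2 1 : V K) = Pi.single 2 1 := by rw [e1_mul]; apply ext8 <;> simp
  have W0 : W 0 = 1 := by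
    have h1 := congrArg g me2
    rw [mem_AutO.1 hg, ← hW, g2, zmul_smul] at h1
    have h2 := congrFun h1 2
    simp [mul2] at h2
    exact mul_left_cancel₀ hk0 (h2.trans (mul_one k).symm)
  have W7 : W 7 = 0 := by rw [W0] at ht; linear_combination ht
  have hk1 : k = 1 := by rw [W0, W7] at W70; linear_combination W70
  -- the image of the vector 3
  set S : V K := g (Pi.single 3 1) with hS
  have h3' := hc (Pi.single 3 1)
  rw [t3, map_sub, map_smul, ← hP, ← hS] at h3'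
  have s0 := congrFun h3' 0
  have s2 := congrFun h3' 2
  have s4 := congrFun h3' 4
  have s6 := congrFun h3' 6
  rw [tau0] at s0
  rw [tau2] at s2
  rw [tau4] at s4
  rw [tau6] at s6
  simp only [Pi.sub_apply, Pi.smul_apply, smul_eq_mul, Matrix.cons_val_zero, Matrix.cons_val_one, Matrix.cons_val, p0]
    at s0 s2 s4 s6
  have S5 : S 5 = 0 := by
    have : s * S 5 = 0 := by linear_combination -s0
    exact (mul_eq_zero.1 this).resolve_left hs
  have S3 : S 3 = P 4 := by
    have : s * (S 3 - P 4) = 0 := by linear_combination s4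
    exact sub_eq_zero.1 ((mul_eq_zero.1 this).resolve_left hs)
  have S1 : S 1 = -P 6 := by
    have : s * (S 1 + P 6) = 0 := by linear_combination -s6
    linear_combination (mul_eq_zero.1 this).resolve_left hs
  have S70 : S 7 - S 0 = -P 2 := by
    have : s * (S 7 - S 0 + P 2) = 0 := by rw [S5] at s2; linear_combination -s2
    linear_combination (mul_eq_zero.1 this).resolve_left hs
  have trS : S 0 + S 7 = 0 := by
    have : tr S = tr (Pi.single 3 1 : V K) := map_tr hg _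
    rw [tr, tr] at this
    simpa using this
  have me3 : zornMul e1 (Pi.single 3 1 : V K) = Pi.single 3 1 := by rw [e1_mul]; apply ext8 <;> simp
  have r3 : W 4 * S 1 + W 6 * S 3 = S 7 := by
    have h1 := congrArg g me3
    rw [mem_AutO.1 hg, ← hW, ← hS] at h1
    have h2 := congrFun h1 7
    rw [mul7, W7, W5] at h2
    linear_combination h2
  have me4 : zornMul e1 (Pi.single 4 1 : V K) = 0 := by rw [e1_mul]; apply ext8 <;> simp
  have r4 : P 2 = W 6 * P 4 - W 4 * P 6 := by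
    have h1 := congrArg g me4
    rw [mem_AutO.1 hg, ← hW, ← hP, map_zero] at h1
    have h2 := congrFun h1 2
    rw [mul2, W0, p7, Pi.zero_apply] at h2
    linear_combination h2
  have S7 : S 7 = 0 := by
    have : 3 * S 7 = 0 := by
      rw [S1, S3] at r3
      linear_combination S70 + trS - r4 - r3
    exact (mul_eq_zero.1 this).resolve_left h3
  have c1 : W 6 * P 4 = W 4 * P 6 := by rw [S1, S3, S7] at r3; linear_combination r3
  -- the image of the vector 1
  set R : V K := g (Pi.single 1 1) with hR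
  have h1' := hc (Pi.single 1 1)
  rw [t1, map_add, map_smul, ← hQ, ← hR] at h1'
  have s0 := congrFun h1' 0
  have s2 := congrFun h1' 2
  have s4 := congrFun h1' 4
  have s6 := congrFun h1' 6
  rw [tau0] at s0
  rw [tau2] at s2
  rw [tau4] at s4
  rw [tau6] at s6
  simp only [Pi.add_apply, Pi.smul_apply, smul_eq_mul, Matrix.cons_val_zero, Matrix.cons_val_one, Matrix.cons_val, q0]
    at s0 s2 s4 s6
  have R5 : R 5 = 0 := by
    have : s * R 5 = 0 := by linear_combination -s0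
    exact (mul_eq_zero.1 this).resolve_left hs
  have R3 : R 3 = -Q 4 := by
    have : s * (R 3 + Q 4) = 0 := by linear_combination s4
    linear_combination (mul_eq_zero.1 this).resolve_left hs
  have R1 : R 1 = Q 6 := by
    have : s * (R 1 - Q 6) = 0 := by linear_combination -s6
    linear_combination (mul_eq_zero.1 this).resolve_left hs
  have R70 : R 7 - R 0 = Q 2 := by
    have : s * (R 7 - R 0 - Q 2) = 0 := by rw [R5] at s2; linear_combination -s2
    linear_combination (mul_eq_zero.1 this).resolve_left hs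
  have trR : R 0 + R 7 = 0 := by
    have : tr R = tr (Pi.single 1 1 : V K) := map_tr hg _
    rw [tr, tr] at this
    simpa using this
  have me1 : zornMul e1 (Pi.single 1 1 : V K) = Pi.single 1 1 := by rw [e1_mul]; apply ext8 <;> simp
  have r1 : W 4 * R 1 + W 6 * R 3 = R 7 := by
    have h1 := congrArg g me1
    rw [mem_AutO.1 hg, ← hW, ← hR] at h1
    have h2 := congrFun h1 7
    rw [mul7, W7, W5] at h2
    linear_combination h2
  have me6 : zornMul e1 (Pi.single 6 1 : V K) = 0 := by rw [e1_mul]; apply ext8 <;> simp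
  have r6 : Q 2 = W 6 * Q 4 - W 4 * Q 6 := by
    have h1 := congrArg g me6
    rw [mem_AutO.1 hg, ← hW, ← hQ, map_zero] at h1
    have h2 := congrFun h1 2
    rw [mul2, W0, q7, Pi.zero_apply] at h2
    linear_combination h2
  have R7 : R 7 = 0 := by
    have : 3 * R 7 = 0 := by
      rw [R1, R3] at r1
      linear_combination R70 + trR + r6 - r1
    exact (mul_eq_zero.1 this).resolve_left h3
  have c2 : W 6 * Q 4 = W 4 * Q 6 := by rw [R1, R3, R7] at r1; linear_combination -r1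
  have hk1' : P 4 * Q 6 - P 6 * Q 4 = 1 := hk1
  have W4 : W 4 = 0 := by linear_combination (-(W 4)) * hk1' + P 4 * (-c2) + Q 4 * c1
  have W6 : W 6 = 0 := by linear_combination (-(W 6)) * hk1' + Q 6 * c1 - P 6 * c2
  refine ⟨by rw [g2, hk1, one_smul], ?_⟩
  apply ext8 <;> simp [W0, W1, W3, W4, W5, W6, W7, e1_0, e1_1, e1_2, e1_3, e1_4, e1_5, e1_6, e1_7]

/-! ### The short root elements -/

/-- the diagonal form of `exists_diag` -/
def dF (a b c : K) (x : V K) : V K := ![x 0, a * x 1, b * x 2, c * x 3, a⁻¹ * x 4, b⁻¹ * x 5, c⁻¹ * x 6, x 7]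

theorem dF0 (a b c : K) (x : V K) : dF a b c x 0 = x 0 := rfl
theorem dF1 (a b c : K) (x : V K) : dF a b c x 1 = a * x 1 := rfl
theorem dF2 (a b c : K) (x : V K) : dF a b c x 2 = b * x 2 := rfl
theorem dF3 (a b c : K) (x : V K) : dF a b c x 3 = c * x 3 := rfl
theorem dF4 (a b c : K) (x : V K) : dF a b c x 4 = a⁻¹ * x 4 := rfl
theorem dF5 (a b c : K) (x : V K) : dF a b c x 5 = b⁻¹ * x 5 := rfl
theorem dF6 (a b c : K) (x : V K) : dF a b c x 6 = c⁻¹ * x 6 := rfl
theorem dF7 (a b c : K) (x : V K) : dF a b c x 7 = x 7 := rfl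

/-- the eigenspace to `a` of `dF a 1 a⁻¹` -/
theorem mem_Wa {a : K} (ha0 : a ≠ 0) (ha : a ^ 2 ≠ 1) {x : V K} (h : dF a 1 a⁻¹ x = a • x) :
    x 0 = 0 ∧ x 2 = 0 ∧ x 3 = 0 ∧ x 4 = 0 ∧ x 5 = 0 ∧ x 7 = 0 := by
  have ha1 : a - 1 ≠ 0 := fun h => ha (by rw [sub_eq_zero.1 h, one_pow])
  have ha2 : a ^ 2 - 1 ≠ 0 := sub_ne_zero.2 ha
  have h0 := congrFun h 0
  have h2 := congrFun h 2
  have h3 := congrFun h 3
  have h4 := congrFun h 4
  have h5 := congrFun h 5
  have h7 := congrFun h 7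
  rw [dF0, Pi.smul_apply, smul_eq_mul] at h0
  rw [dF2, Pi.smul_apply, smul_eq_mul] at h2
  rw [dF3, Pi.smul_apply, smul_eq_mul] at h3
  rw [dF4, Pi.smul_apply, smul_eq_mul] at h4
  rw [dF5, Pi.smul_apply, smul_eq_mul, inv_one] at h5
  rw [dF7, Pi.smul_apply, smul_eq_mul] at h7
  have e3 : x 3 = a * (a * x 3) := by rw [← h3, mul_inv_cancel_left₀ ha0]
  have e4 : x 4 = a * (a * x 4) := by rw [← h4, mul_inv_cancel_left₀ ha0]
  refine ⟨(mul_eq_zero.1 (show (a - 1) * x 0 = 0 by linear_combination -h0)).resolve_left ha1,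
    (mul_eq_zero.1 (show (a - 1) * x 2 = 0 by linear_combination -h2)).resolve_left ha1,
    (mul_eq_zero.1 (show (a ^ 2 - 1) * x 3 = 0 by linear_combination -e3)).resolve_left ha2,
    (mul_eq_zero.1 (show (a ^ 2 - 1) * x 4 = 0 by linear_combination -e4)).resolve_left ha2,
    (mul_eq_zero.1 (show (a - 1) * x 5 = 0 by linear_combination -h5)).resolve_left ha1,
    (mul_eq_zero.1 (show (a - 1) * x 7 = 0 by linear_combination -h7)).resolve_left ha1⟩

/-- the eigenspace to `a⁻¹` of `dF a 1 a⁻¹` -/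
theorem mem_Wb {a : K} (ha0 : a ≠ 0) (ha : a ^ 2 ≠ 1) {x : V K} (h : dF a 1 a⁻¹ x = a⁻¹ • x) :
    x 0 = 0 ∧ x 1 = 0 ∧ x 2 = 0 ∧ x 5 = 0 ∧ x 6 = 0 ∧ x 7 = 0 := by
  have ha1 : a - 1 ≠ 0 := fun h => ha (by rw [sub_eq_zero.1 h, one_pow])
  have ha2 : a ^ 2 - 1 ≠ 0 := sub_ne_zero.2 ha
  have key : ∀ t u : K, u = a⁻¹ * t → a * u = t := fun t u h => by rw [h, mul_inv_cancel_left₀ ha0]
  have h0 := congrFun h 0
  have h1 := congrFun h 1
  have h2 := congrFun h 2
  have h5 := congrFun h 5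
  have h6 := congrFun h 6
  have h7 := congrFun h 7
  rw [dF0, Pi.smul_apply, smul_eq_mul] at h0
  rw [dF1, Pi.smul_apply, smul_eq_mul] at h1
  rw [dF2, Pi.smul_apply, smul_eq_mul] at h2
  rw [dF5, Pi.smul_apply, smul_eq_mul, inv_one] at h5
  rw [dF6, Pi.smul_apply, smul_eq_mul, inv_inv] at h6
  rw [dF7, Pi.smul_apply, smul_eq_mul] at h7
  have k0 := key _ _ h0
  have k1 := key _ _ h1
  have k2 := key _ _ h2
  have k5 := key _ _ h5
  have k6 := key _ _ h6
  have k7 := key _ _ h7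
  refine ⟨(mul_eq_zero.1 (show (a - 1) * x 0 = 0 by linear_combination k0)).resolve_left ha1,
    (mul_eq_zero.1 (show (a ^ 2 - 1) * x 1 = 0 by linear_combination k1)).resolve_left ha2,
    (mul_eq_zero.1 (show (a - 1) * x 2 = 0 by linear_combination k2)).resolve_left ha1,
    (mul_eq_zero.1 (show (a - 1) * x 5 = 0 by linear_combination k5)).resolve_left ha1,
    (mul_eq_zero.1 (show (a ^ 2 - 1) * x 6 = 0 by linear_combination k6)).resolve_left ha2,
    (mul_eq_zero.1 (show (a - 1) * x 7 = 0 by linear_combination k7)).resolve_left ha1⟩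

theorem eq_one_of_single {g : V K ≃ₗ[K] V K} (h : ∀ i, g (Pi.single i 1) = Pi.single i 1) : g = 1 := by
  apply LinearEquiv.toLinearMap_injective
  apply (Pi.basisFun K (Fin 8)).ext
  intro i
  rw [Pi.basisFun_apply]
  exact h i

/-- an automorphism commuting with `dF a 1 a⁻¹` and fixing the vectors 1 and 6 is trivial -/
theorem triv {a : K} (ha0 : a ≠ 0) (ha : a ^ 2 ≠ 1) {y g : V K ≃ₗ[K] V K} (hy : ∀ x, y x = dF a 1 a⁻¹ x)
    (hg : g ∈ AutO K) (hgy : ∀ x, g (y x) = y (g x)) (h1 : g (Pi.single 1 1) = Pi.single 1 1)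
    (h6 : g (Pi.single 6 1) = Pi.single 6 1) : g = 1 := by
  have y3 : y (Pi.single 3 1 : V K) = a⁻¹ • Pi.single 3 1 := by
    rw [hy]; apply ext8 <;> simp [dF]
  have y4 : y (Pi.single 4 1 : V K) = a⁻¹ • Pi.single 4 1 := by
    rw [hy]; apply ext8 <;> simp [dF]
  have g3 : g (Pi.single 3 1) = Pi.single 3 1 := by
    have e := mem_Wb ha0 ha (x := g (Pi.single 3 1)) (by rw [← hy, ← hgy, y3, map_smul])
    obtain ⟨e0, e1', e2, e5, e6, e7⟩ := e
    have b1 : bl (g (Pi.single 3 1)) (g (Pi.single 1 1)) = bl (Pi.single 3 1) (Pi.single 1 1) := map_bl hg _ _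
    have b6 : bl (g (Pi.single 3 1)) (g (Pi.single 6 1)) = bl (Pi.single 3 1) (Pi.single 6 1) := map_bl hg _ _
    rw [h1, bl_single1, bl_single1] at b1
    rw [h6, bl_single6, bl_single6] at b6
    apply ext8 <;> simp [e0, e1', e2, e5, e6, e7]
    · simpa using b6
    · simpa using b1
  have g4 : g (Pi.single 4 1) = Pi.single 4 1 := by
    have e := mem_Wb ha0 ha (x := g (Pi.single 4 1)) (by rw [← hy, ← hgy, y4, map_smul])
    obtain ⟨e0, e1', e2, e5, e6, e7⟩ := e
    have b1 : bl (g (Pi.single 4 1)) (g (Pi.single 1 1)) = bl (Pi.single 4 1) (Pi.single 1 1) := map_bl hg _ _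
    have b6 : bl (g (Pi.single 4 1)) (g (Pi.single 6 1)) = bl (Pi.single 4 1) (Pi.single 6 1) := map_bl hg _ _
    rw [h1, bl_single1, bl_single1] at b1
    rw [h6, bl_single6, bl_single6] at b6
    apply ext8 <;> simp [e0, e1', e2, e5, e6, e7]
    · simpa using b6
    · simpa using b1
  have m2 : zornMul (Pi.single 4 1 : V K) (Pi.single 6 1) = Pi.single 2 1 := by
    apply ext8 <;> simp [mul0, mul1, mul2, mul3, mul4, mul5, mul6, mul7]
  have m5 : zornMul (Pi.single 3 1 : V K) (Pi.single 1 1) = Pi.single 5 1 := by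
    apply ext8 <;> simp [mul0, mul1, mul2, mul3, mul4, mul5, mul6, mul7]
  have m0 : zornMul (Pi.single 1 1 : V K) (Pi.single 4 1) = Pi.single 0 1 := by
    apply ext8 <;> simp [mul0, mul1, mul2, mul3, mul4, mul5, mul6, mul7]
  have m7 : zornMul (Pi.single 4 1 : V K) (Pi.single 1 1) = Pi.single 7 1 := by
    apply ext8 <;> simp [mul0, mul1, mul2, mul3, mul4, mul5, mul6, mul7]
  have g2 : g (Pi.single 2 1) = Pi.single 2 1 := by rw [← m2, mem_AutO.1 hg, g4, h6]
  have g5 : g (Pi.single 5 1) = Pi.single 5 1 := by rw [← m5, mem_AutO.1 hg, g3, h1]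
  have g0 : g (Pi.single 0 1) = Pi.single 0 1 := by rw [← m0, mem_AutO.1 hg, h1, g4]
  have g7 : g (Pi.single 7 1) = Pi.single 7 1 := by rw [← m7, mem_AutO.1 hg, g4, h1]
  apply eq_one_of_single
  intro i
  fin_cases i
  · exact g0
  · exact h1
  · exact g2
  · exact g3
  · exact g4
  · exact g5
  · exact h6
  · exact g7

/-- `tau ![0, s, 0]` and `tl ![0, s, 0]` commute with `dF a 1 a⁻¹` -/
theorem tau_dF {a s : K} (x : V K) : tauF ![0, s, 0] (dF a 1 a⁻¹ x) = dF a 1 a⁻¹ (tauF ![0, s, 0] x) := by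
  apply ext8 <;> simp only [tau0, tau1, tau2, tau3, tau4, tau5, tau6, tau7, dF0, dF1, dF2, dF3, dF4, dF5, dF6, dF7,
    Matrix.cons_val_zero, Matrix.cons_val_one, Matrix.cons_val, inv_inv, inv_one] <;> ring

theorem swp_dF {a : K} (x : V K) : swpF (dF a 1 a⁻¹ x) = dF a⁻¹ 1 a (swpF x) := by
  apply ext8 <;> simp only [swpF0, swpF1, swpF2, swpF3, swpF4, swpF5, swpF6, swpF7, dF0, dF1, dF2, dF3, dF4, dF5, dF6,
    dF7, inv_inv, inv_one] <;> ring

open Cfsg.Agent.H148.Oct in
theorem tl_dF {a s : K} (x : V K) : tl ![0, s, 0] (dF a 1 a⁻¹ x) = dF a 1 a⁻¹ (tl ![0, s, 0] x) := by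
  have h1 : ∀ z : V K, dF a⁻¹ 1 a z = dF a⁻¹ 1 (a⁻¹)⁻¹ z := by intro z; rw [inv_inv]
  rw [tl_apply, tl_apply, swp_dF, h1, tau_dF, swp_dF, inv_inv]

section Unip

variable {p : ℕ} [Fact p.Prime] [CharP K p]

/-- a unipotent map on a stable set of vectors: a nonzero fixed vector -/
theorem exists_fix_of_nil {z : V K ≃ₗ[K] V K} {k : ℕ} (hz : z ^ p ^ k = 1) (W : Submodule K (V K))
    (hW : ∀ x ∈ W, z x ∈ W) {w : V K} (hw : w ∈ W) (hw0 : w ≠ 0) : ∃ x ∈ W, x ≠ 0 ∧ z x = x := by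
  have hn := nil_nilpotent hz
  have h1 : (nil z ^ p ^ k) w = 0 := by rw [hn]; rfl
  have hex : ∃ n, (nil z ^ n) w = 0 := ⟨_, h1⟩
  classical
  have hm := Nat.find_spec hex
  have hpos : Nat.find hex ≠ 0 := by
    intro h
    rw [h, pow_zero] at hm
    exact hw0 hm
  obtain ⟨n, hn'⟩ := Nat.exists_eq_succ_of_ne_zero hpos
  have hlt := Nat.find_min hex (m := n) (by omega)
  refine ⟨(nil z ^ n) w, ?_, hlt, ?_⟩
  · clear hlt hn' hm hpos
    induction n with
    | zero => exact hw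
    | succ n ih =>
      rw [pow_succ', Module.End.mul_apply, nil_apply]
      exact W.sub_mem (hW _ ih) ih
  · rw [hn', Nat.succ_eq_add_one, pow_succ', Module.End.mul_apply, nil_apply] at hm
    exact sub_eq_zero.1 hm

/-- **Normal form of a unipotent automorphism commuting with `dF a 1 a⁻¹`** -/
theorem norm_z {a : K} (ha0 : a ≠ 0) (ha : a ^ 2 ≠ 1) {y z : V K ≃ₗ[K] V K} (hy : ∀ x, y x = dF a 1 a⁻¹ x)
    (hz : z ∈ AutO K) (hzy : ∀ x, z (y x) = y (z x)) {k : ℕ} (hzk : z ^ p ^ k = 1) (hz1 : z ≠ 1) :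
    ∃ h ∈ AutO K, ∃ s : K, s ≠ 0 ∧ h * z * h⁻¹ = tau ![0, s, 0] := by
  have y1 : y (Pi.single 1 1 : V K) = a • Pi.single 1 1 := by
    rw [hy]; apply ext8 <;> simp [dF]
  have y6 : y (Pi.single 6 1 : V K) = a • Pi.single 6 1 := by
    rw [hy]; apply ext8 <;> simp [dF]
  let W : Submodule K (V K) := LinearMap.ker ((y : V K →ₗ[K] V K) - a • LinearMap.id)
  have hW : ∀ x, x ∈ W ↔ y x = a • x := by
    intro x
    rw [LinearMap.mem_ker, LinearMap.sub_apply, sub_eq_zero]
    exact Iff.rfl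
  obtain ⟨w, hwW, hw0, hw⟩ := exists_fix_of_nil hzk W (fun x hx => by
    rw [hW] at hx ⊢
    rw [← hzy, hx, map_smul]) ((hW _).2 y1) (by
    intro h; have := congrFun h 1; simp at this)
  obtain ⟨w0, w2, w3, w4, w5, w7⟩ := mem_Wa ha0 ha (x := w) (by rw [← hy, (hW _).1 hwW])
  -- move `w` to a multiple of the vector 6
  obtain ⟨g, hg, hgy, c, hc0, hgw⟩ : ∃ g ∈ AutO K, (∀ x, g (y x) = y (g x)) ∧ ∃ c : K, c ≠ 0 ∧
      g w = c • Pi.single 6 1 := by
    have step : ∀ v : V K, v 0 = 0 → v 2 = 0 → v 3 = 0 → v 4 = 0 → v 5 = 0 → v 7 = 0 → v 6 ≠ 0 →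
        ∃ g ∈ AutO K, (∀ x, g (y x) = y (g x)) ∧ ∃ c : K, c ≠ 0 ∧ g v = c • Pi.single 6 1 := by
      intro v v0 v2 v3 v4 v5 v7 v6
      refine ⟨Cfsg.Agent.H148.Oct.tl ![0, v 1 / v 6, 0], Cfsg.Agent.H148.Oct.tl_mem _, fun x => by
        rw [hy, hy, tl_dF], v 6, v6, ?_⟩
      apply ext8 <;> simp [Cfsg.Agent.H148.Oct.tl0, Cfsg.Agent.H148.Oct.tl1, Cfsg.Agent.H148.Oct.tl2,
        Cfsg.Agent.H148.Oct.tl3, Cfsg.Agent.H148.Oct.tl4, Cfsg.Agent.H148.Oct.tl5, Cfsg.Agent.H148.Oct.tl6,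
        Cfsg.Agent.H148.Oct.tl7, v0, v2, v3, v4, v5, v7]
      field_simp
      ring
    by_cases h6 : w 6 = 0
    · have h1 : w 1 ≠ 0 := by
        intro h1
        apply hw0
        apply ext8 <;> simp [w0, h1, w2, w3, w4, w5, h6, w7]
      obtain ⟨g, hg, hgy, c, hc, hgc⟩ := step (tauF ![0, 1, 0] w) (by simp [tau0, w0, w5]) (by
        simp [tau2, w2, w7, w0, w5]) (by simp [tau3, w3]) (by simp [tau4, w4, w3]) (by simp [tau5, w5])
        (by simp [tau7, w7, w5]) (by simp [tau6, h6, h1])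
      refine ⟨g * tau ![0, 1, 0], (AutO K).mul_mem hg (tau_mem _), fun x => ?_, c, hc, ?_⟩
      · rw [LinearEquiv.mul_apply, LinearEquiv.mul_apply, ← hgy, tau_apply, tau_apply, hy, tau_dF, ← hy]
      · rw [LinearEquiv.mul_apply, tau_apply, hgc]
    · exact step w w0 w2 w3 w4 w5 w7 h6
  -- the conjugate
  set t : V K ≃ₗ[K] V K := g * z * g⁻¹ with ht
  have hgi : ∀ x, g⁻¹ (g x) = x := fun x => g.symm_apply_apply x
  have hgi' : ∀ x, g (g⁻¹ x) = x := fun x => g.apply_symm_apply x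
  have tm : t ∈ AutO K := (AutO K).mul_mem ((AutO K).mul_mem hg hz) ((AutO K).inv_mem hg)
  have hgy' : ∀ x, g⁻¹ (y x) = y (g⁻¹ x) := by
    intro x
    apply g.injective
    rw [hgi', hgy, hgi']
  have ty : ∀ x, t (y x) = y (t x) := by
    intro x
    rw [ht, LinearEquiv.mul_apply, LinearEquiv.mul_apply, LinearEquiv.mul_apply, LinearEquiv.mul_apply, hgy', hzy, hgy]
  have t6 : t (Pi.single 6 1) = Pi.single 6 1 := by
    have h1 : t (c • Pi.single 6 1) = c • Pi.single 6 1 := by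
      rw [← hgw, ht, LinearEquiv.mul_apply, LinearEquiv.mul_apply, hgi, hw]
    rw [map_smul] at h1
    exact smul_right_injective _ hc0 h1
  have tk : t ^ p ^ k = 1 := by rw [ht, conj_pow, hzk, mul_one, mul_inv_cancel]
  obtain ⟨e0, e2, e3, e4, e5, e7⟩ := mem_Wa ha0 ha (x := t (Pi.single 1 1)) (by rw [← hy, ← ty, y1, map_smul])
  have t1 : t (Pi.single 1 1) = t (Pi.single 1 1) 1 • Pi.single 1 1 + t (Pi.single 1 1) 6 • Pi.single 6 1 := by
    apply ext8 <;> simp [e0, e2, e3, e4, e5, e7]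
  set α : K := t (Pi.single 1 1) 1 with hα
  set β : K := t (Pi.single 1 1) 6 with hβ
  have hα1 : α = 1 := by
    have key : ∀ n : ℕ, ∃ d : K, (nil t ^ n) (Pi.single 1 1) = (α - 1) ^ n • Pi.single 1 1 + d • Pi.single 6 1 := by
      intro n
      induction n with
      | zero => exact ⟨0, by simp⟩
      | succ n ih =>
        obtain ⟨d, hd⟩ := ih
        refine ⟨(α - 1) ^ n * β, ?_⟩
        rw [pow_succ', Module.End.mul_apply, hd, map_add, map_smul, map_smul, nil_apply, nil_apply, t6, sub_self,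
          smul_zero, add_zero, t1]
        apply ext8 <;> simp
        ring
    obtain ⟨d, hd⟩ := key (p ^ k)
    rw [nil_nilpotent tk] at hd
    have h1 := congrFun hd 1
    simp at h1
    exact sub_eq_zero.1 ((pow_eq_zero_iff (pow_ne_zero _ (Fact.out : p.Prime).ne_zero)).1 h1.symm)
  rw [hα1, one_smul] at t1
  -- the conjugate is a `tau`
  have hti : ∀ x : V K, (tau ![0, β, 0])⁻¹ x = tauF ![0, -β, 0] x := by
    intro x
    have : (tau ![0, β, 0])⁻¹ x = tauF (-![0, β, 0]) x := rfl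
    rw [this]
    congr 1
    funext i
    fin_cases i <;> simp
  have hone : (tau ![0, β, 0])⁻¹ * t = 1 := by
    refine triv ha0 ha hy ((AutO K).mul_mem ((AutO K).inv_mem (tau_mem _)) tm) (fun x => ?_) ?_ ?_
    · show (tau ![0, β, 0])⁻¹ (t (y x)) = y ((tau ![0, β, 0])⁻¹ (t x))
      rw [ty, hti, hti, hy, tau_dF, ← hy]
    · show (tau ![0, β, 0])⁻¹ (t (Pi.single 1 1)) = _
      rw [t1, hti]
      apply ext8 <;> simp [tau0, tau1, tau2, tau3, tau4, tau5, tau6, tau7]
    · show (tau ![0, β, 0])⁻¹ (t (Pi.single 6 1)) = _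
      rw [t6, hti]
      apply ext8 <;> simp [tau0, tau1, tau2, tau3, tau4, tau5, tau6, tau7]
  have hfin : t = tau ![0, β, 0] := by
    have := congrArg (fun r => tau ![0, β, 0] * r) hone
    simpa [mul_inv_cancel_left] using this
  refine ⟨g, hg, β, ?_, hfin⟩
  intro hβ0
  apply hz1
  have h1 : t = 1 := by
    rw [hfin, hβ0]
    apply eq_one_of_single
    intro i
    rw [tau_apply]
    apply ext8 <;> simp [tau0, tau1, tau2, tau3, tau4, tau5, tau6, tau7]
  rw [ht] at h1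
  have h2 : z = g⁻¹ * (g * z * g⁻¹) * g := by group
  rw [h2, h1]
  group

/-- **No short type in characteristic `≠ 3`** -/
theorem not_short (h3 : (3 : K) ≠ 0) {a : K} (ha0 : a ≠ 0) (ha : a ^ 2 ≠ 1) {y z u v : V K ≃ₗ[K] V K}
    (hy : ∀ x, y x = dF a 1 a⁻¹ x) (hz : z ∈ AutO K) (hu : u ∈ AutO K) (hv : v ∈ AutO K) (hzy : z * y = y * z)
    {k : ℕ} (hzk : z ^ p ^ k = 1) (hz1 : z ≠ 1) (hzu : z * u = u * z) (hzv : z * v = v * z)
    (huv : z * (v * u) = u * v) : False := by
  obtain ⟨h, hh, s, hs, hhz⟩ := norm_z ha0 ha hy hz (fun x => by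
    have := congrArg (fun g : V K ≃ₗ[K] V K => g x) hzy
    exact this) hzk hz1
  have key : ∀ g ∈ AutO K, z * g = g * z → (h * g * h⁻¹) (Pi.single 2 1) = Pi.single 2 1 ∧
      (h * g * h⁻¹) e1 = e1 + ((h * g * h⁻¹) e1 2) • Pi.single 2 1 := by
    intro g hg hgz
    refine comm_tau h3 hs ((AutO K).mul_mem ((AutO K).mul_mem hh hg) ((AutO K).inv_mem hh)) fun x => ?_
    have h1 : (h * g * h⁻¹) * (h * z * h⁻¹) = (h * z * h⁻¹) * (h * g * h⁻¹) := by
      calc (h * g * h⁻¹) * (h * z * h⁻¹) = h * (g * z) * h⁻¹ := by group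
        _ = h * (z * g) * h⁻¹ := by rw [hgz]
        _ = _ := by group
    rw [hhz] at h1
    exact congrArg (fun g : V K ≃ₗ[K] V K => g x) h1
  obtain ⟨u2, u1⟩ := key u hu hzu
  obtain ⟨v2, v1⟩ := key v hv hzv
  have h1 : (h * z * h⁻¹) * ((h * v * h⁻¹) * (h * u * h⁻¹)) = (h * u * h⁻¹) * (h * v * h⁻¹) := by
    calc (h * z * h⁻¹) * ((h * v * h⁻¹) * (h * u * h⁻¹)) = h * (z * (v * u)) * h⁻¹ := by group
      _ = h * (u * v) * h⁻¹ := by rw [huv]
      _ = _ := by group
  rw [hhz] at h1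
  have fin : ∀ (A B : V K ≃ₗ[K] V K) (α β : K), A (Pi.single 2 1) = Pi.single 2 1 → A e1 = e1 + α • Pi.single 2 1 →
      B (Pi.single 2 1) = Pi.single 2 1 → B e1 = e1 + β • Pi.single 2 1 → tau ![0, s, 0] * (B * A) = A * B → False := by
    intro A B α β A2 A1 B2 B1 hAB
    have h2 := congrArg (fun g : V K ≃ₗ[K] V K => g e1) hAB
    simp only [LinearEquiv.mul_apply] at h2
    rw [A1, B1] at h2
    simp only [map_add, map_smul, A1, A2, B1, B2] at h2
    rw [tau_apply, tau_apply] at h2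
    have h3' := congrFun h2 2
    simp only [Pi.add_apply, Pi.smul_apply, smul_eq_mul] at h3'
    rw [tau2, tau2] at h3'
    simp [e1_0, e1_2, e1_5, e1_7] at h3'
    apply hs
    linear_combination -h3'
  exact fin _ _ _ _ u2 u1 v2 v1 h1

end Unip

end Cfsg.Agent.H420.G2U
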