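import Cfsg.Agent.H420.G2U.SU
import Cfsg.Agent.LieClassical.SLGen

/-!
# Subgroups `SL₃`, `SU₃` of `G₂`, IV: `SL₃(q)` fixes an idempotent (helper420, row G2(q) of S3938)
-/

set_option autoImplicit false
set_option linter.unusedSimpArgs false

namespace Cfsg.Agent.H420.G2U

open Cfsg.Agent.H161.Oct
open Cfsg.Agent.LieClassical.SLGen

local notation "SL3" F => Matrix.SpecialLinearGroup (Fin 3) F

section SL

variable {F : Type*} [Field F]

/-- the diagonal elements -/
def ys (m : F) (hm : m ≠ 0) (i : Fin 3) : SL3 F :=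
  ⟨Matrix.diagonal (de m i), by rw [Matrix.det_diagonal, Fin.prod_univ_three]; exact de_prod hm i⟩

theorem ys_smul {m : F} (hm : m ≠ 0) (i : Fin 3) (x : Fin 3 → F) (j : Fin 3) : (ys m hm i • x) j = de m i j * x j := by
  rw [Matrix.SpecialLinearGroup.smul_def]
  change (Matrix.diagonal (de m i)).mulVec x j = _
  rw [Matrix.mulVec_diagonal]

theorem ys_single_same {m : F} (hm : m ≠ 0) (i : Fin 3) :
    ys m hm i • (Pi.single i 1 : Fin 3 → F) = (m ^ 2)⁻¹ • Pi.single i 1 := by
  funext t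
  rw [ys_smul, Pi.smul_apply, smul_eq_mul]
  by_cases hti : t = i
  · subst hti; rw [de, if_pos rfl]
  · rw [Pi.single_eq_of_ne hti, mul_zero, mul_zero]

theorem ys_single_ne {m : F} (hm : m ≠ 0) {i j : Fin 3} (hij : j ≠ i) :
    ys m hm i • (Pi.single j 1 : Fin 3 → F) = m • Pi.single j 1 := by
  funext t
  rw [ys_smul, Pi.smul_apply, smul_eq_mul]
  by_cases hti : t = j
  · subst hti; rw [de, if_neg hij]
  · rw [Pi.single_eq_of_ne hti, mul_zero, mul_zero]

theorem comm_tv {m : F} (hm : m ≠ 0) {i j k : Fin 3} (hjk : j ≠ k) (hj : j ≠ i) (hk : k ≠ i) (c : F) :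
    Matrix.SpecialLinearGroup.transvection hjk c * ys m hm i = ys m hm i * Matrix.SpecialLinearGroup.transvection hjk c := by
  apply smul_ext
  intro x
  rw [mul_smul, mul_smul, transvection_smul, transvection_smul, smul_add, smul_comm, ys_single_ne hm hj, ys_smul, de,
    if_neg hk, smul_smul]
  congr 2
  ring

theorem tv_pow {j k : Fin 3} (hjk : j ≠ k) (c : F) (n : ℕ) (x : Fin 3 → F) :
    (Matrix.SpecialLinearGroup.transvection hjk c ^ n) • x = x + ((n : F) * (c * x k)) • Pi.single j (1 : F) := by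
  induction n with
  | zero => rw [pow_zero, one_smul, Nat.cast_zero, zero_mul, zero_smul, add_zero]
  | succ n ih =>
    rw [pow_succ', mul_smul, ih, transvection_smul, Pi.add_apply, Pi.smul_apply, Pi.single_eq_of_ne hjk.symm,
      smul_zero, add_zero, add_assoc, ← add_smul]
    congr 2
    push_cast
    ring

theorem exists_jk (i : Fin 3) : ∃ j k : Fin 3, j ≠ k ∧ j ≠ i ∧ k ≠ i := by
  fin_cases i
  · exact ⟨1, 2, by decide, by decide, by decide⟩
  · exact ⟨0, 2, by decide, by decide, by decide⟩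
  · exact ⟨0, 1, by decide, by decide, by decide⟩

variable {K : Type*} [Field K] {p : ℕ} [hp : Fact p.Prime] [CharP K p]

/-- **The diagonal elements are good.** -/
theorem good_ys [Fintype F] (hFp : CharP F p) {m : F} (hm : m ≠ 0) (hm6 : m ^ 6 ≠ 1) (ρ : (SL3 F) →* ↥(AutO K))
    (hker : ∀ g, ρ g = 1 → g ∈ Subgroup.center (SL3 F)) (i : Fin 3) : Good ρ p (ys m hm i) := by
  have hm3 : m ^ 3 ≠ 1 := fun h => hm6 (by rw [show (6 : ℕ) = 3 * 2 by norm_num, pow_mul, h, one_pow])
  obtain ⟨j, k, hjk, hji, hki⟩ := exists_jk i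
  refine ⟨?_, ⟨Fintype.card F - 1, ?_, ?_⟩, Matrix.SpecialLinearGroup.transvection hjk 1,
    Matrix.SpecialLinearGroup.transvection hji 1, Matrix.SpecialLinearGroup.transvection hki.symm 1,
    comm_tv hm hjk hji hki 1, ⟨1, ?_⟩, ?_, ?_, ?_, ?_⟩
  · -- the square is not central
    intro h1
    have h2 := hker (ys m hm i ^ 2) (by rw [map_pow, h1])
    have h3 := Subgroup.mem_center_iff.1 h2 (Matrix.SpecialLinearGroup.transvection hji 1)
    have h4 := congrArg (fun A : SL3 F => (A • (Pi.single i 1 : Fin 3 → F)) j) h3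
    simp only [pow_two, mul_smul] at h4
    rw [transvection_smul, ys_smul, ys_smul, transvection_smul] at h4
    simp only [ys_smul, Pi.add_apply, Pi.smul_apply, smul_eq_mul, Pi.single_eq_same, Pi.single_eq_of_ne hji, mul_zero,
      zero_add, mul_one, one_mul, de, if_pos, if_neg hji] at h4
    apply hm6
    have h6 : (m ^ 2)⁻¹ * (m ^ 2)⁻¹ = m * m := by linear_combination h4
    have h7 : m ^ 6 = (m ^ 2 * m ^ 2) * (m * m) := by ring
    rw [h7, ← h6]
    field_simp
  · obtain ⟨n, hn, hn'⟩ := FiniteField.card F p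
    intro h1
    rw [hn', Nat.cast_sub (Nat.one_le_pow _ _ hn.pos)] at h1
    push_cast at h1
    rw [CharP.cast_eq_zero, zero_pow n.ne_zero, zero_sub] at h1
    exact one_ne_zero (neg_eq_zero.1 h1)
  · apply smul_ext
    intro x
    have : ∀ n : ℕ, ∀ (x : Fin 3 → F) t, ((ys m hm i ^ n) • x) t = de m i t ^ n * x t := by
      intro n
      induction n with
      | zero => intro x t; rw [pow_zero, one_smul, pow_zero, one_mul]
      | succ n ih => intro x t; rw [pow_succ, mul_smul, ih, ys_smul, pow_succ]; ring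
    funext t
    have hd : de m i t ≠ 0 := by
      unfold de
      split_ifs
      · exact inv_ne_zero (pow_ne_zero _ hm)
      · exact hm
    rw [this, one_smul, FiniteField.pow_card_sub_one_eq_one _ hd, one_mul]
  · apply smul_ext
    intro x
    rw [pow_one, tv_pow, one_smul, CharP.cast_eq_zero, zero_mul, zero_smul, add_zero]
  · -- `z` is not central
    intro h1
    have h2 := hker _ h1
    have h3 := Subgroup.mem_center_iff.1 h2 (ys m hm k)
    have h4 := congrArg (fun A : SL3 F => (A • (Pi.single k 1 : Fin 3 → F)) j) h3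
    simp only [mul_smul] at h4
    rw [transvection_smul, ys_smul, transvection_smul] at h4
    simp only [ys_smul, Pi.add_apply, Pi.smul_apply, smul_eq_mul, Pi.single_eq_same, Pi.single_eq_of_ne hjk, mul_zero,
      zero_add, mul_one, one_mul, de, if_pos, if_neg hjk] at h4
    apply hm3
    calc m ^ 3 = m ^ 2 * m := by ring
      _ = m ^ 2 * (m ^ 2)⁻¹ := by rw [← h4]
      _ = 1 := mul_inv_cancel₀ (pow_ne_zero _ hm)
  all_goals
    apply smul_ext
    intro x
    simp only [mul_smul, transvection_smul]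
    funext t
    simp only [Pi.add_apply, Pi.smul_apply, smul_eq_mul, Pi.single_eq_same, Pi.single_eq_of_ne hjk,
      Pi.single_eq_of_ne hjk.symm, Pi.single_eq_of_ne hji, Pi.single_eq_of_ne hji.symm, Pi.single_eq_of_ne hki,
      Pi.single_eq_of_ne hki.symm]
    ring

theorem closure_ys {m : F} (hm : m ≠ 0) :
    Subgroup.closure ({g | g * ys m hm 0 = ys m hm 0 * g} ∪ {g | g * ys m hm 2 = ys m hm 2 * g}) = (⊤ : Subgroup (SL3 F)) := by
  rw [eq_top_iff, ← closure_transvections, Subgroup.closure_le]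
  set C := Subgroup.closure ({g | g * ys m hm 0 = ys m hm 0 * g} ∪ {g | g * ys m hm 2 = ys m hm 2 * g}) with hC
  have c0 : ∀ {j k : Fin 3} (hjk : j ≠ k) (c : F), j ≠ 0 → k ≠ 0 → Matrix.SpecialLinearGroup.transvection hjk c ∈ C :=
    fun hjk c hj hk => Subgroup.subset_closure (Or.inl (comm_tv hm hjk hj hk c))
  have c2 : ∀ {j k : Fin 3} (hjk : j ≠ k) (c : F), j ≠ 2 → k ≠ 2 → Matrix.SpecialLinearGroup.transvection hjk c ∈ C :=
    fun hjk c hj hk => Subgroup.subset_closure (Or.inr (comm_tv hm hjk hj hk c))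
  have key : ∀ {i j k : Fin 3} (hij : i ≠ j) (hjk : j ≠ k) (hik : i ≠ k) (c : F),
      Matrix.SpecialLinearGroup.transvection hik c = Matrix.SpecialLinearGroup.transvection hij c *
        Matrix.SpecialLinearGroup.transvection hjk 1 * Matrix.SpecialLinearGroup.transvection hij (-c) *
        Matrix.SpecialLinearGroup.transvection hjk (-1) := by
    intro i j k hij hjk hik c
    apply smul_ext
    intro x
    simp only [mul_smul, transvection_smul]
    funext t
    simp only [Pi.add_apply, Pi.smul_apply, smul_eq_mul, Pi.single_eq_same, Pi.single_eq_of_ne hij,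
      Pi.single_eq_of_ne hij.symm, Pi.single_eq_of_ne hik, Pi.single_eq_of_ne hik.symm, Pi.single_eq_of_ne hjk,
      Pi.single_eq_of_ne hjk.symm]
    ring
  rintro _ ⟨i, j, hij, c, rfl⟩
  by_cases h0 : i ≠ 0 ∧ j ≠ 0
  · exact c0 hij c h0.1 h0.2
  by_cases h2 : i ≠ 2 ∧ j ≠ 2
  · exact c2 hij c h2.1 h2.2
  have h02 : (i = 0 ∧ j = 2) ∨ (i = 2 ∧ j = 0) := by
    revert hij h0 h2
    revert i j
    decide
  rcases h02 with ⟨rfl, rfl⟩ | ⟨rfl, rfl⟩
  · rw [key (j := 1) (by decide) (by decide) hij c]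
    exact mul_mem (mul_mem (mul_mem (c2 _ _ (by decide) (by decide)) (c0 _ _ (by decide) (by decide)))
      (c2 _ _ (by decide) (by decide))) (c0 _ _ (by decide) (by decide))
  · rw [key (j := 1) (by decide) (by decide) hij c]
    exact mul_mem (mul_mem (mul_mem (c0 _ _ (by decide) (by decide)) (c2 _ _ (by decide) (by decide)))
      (c0 _ _ (by decide) (by decide))) (c2 _ _ (by decide) (by decide))

theorem exists_ms [Fintype F] (hq : ¬ Fintype.card F - 1 ∣ 6) : ∃ m : F, m ≠ 0 ∧ m ^ 6 ≠ 1 := by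
  obtain ⟨g, hg⟩ := IsCyclic.exists_generator (α := Fˣ)
  have ho : orderOf g = Fintype.card F - 1 := by
    classical
    rw [orderOf_eq_card_of_forall_mem_zpowers hg, Nat.card_eq_fintype_card, Fintype.card_units]
  refine ⟨(g : F), g.ne_zero, fun h4 => hq ?_⟩
  rw [← ho]
  apply orderOf_dvd_of_pow_eq_one
  apply Units.ext
  rw [Units.val_pow_eq_pow_val, h4, Units.val_one]

/-- **`SL₃(q)` fixes an idempotent**, `q - 1` not dividing 6, `p ≠ 3`. -/
theorem sl_eps [Fintype F] [IsAlgClosed K] (h3 : (3 : K) ≠ 0) (hFp : CharP F p) (hq : ¬ Fintype.card F - 1 ∣ 6)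
    (ρ : (SL3 F) →* ↥(AutO K)) (hker : ∀ g, ρ g = 1 → g ∈ Subgroup.center (SL3 F))
    (hdet : ∀ s, LinearMap.det ((ρ s).1 : V K →ₗ[K] V K) = 1) :
    ∃ ε y, Lng (ρ y).1 ε ∧ ∀ s, (ρ s).1 ε = ε := by
  obtain ⟨m, hm, hm6⟩ := exists_ms hq
  obtain ⟨ε, h1, h2⟩ := exists_eps (p := p) h3 hdet (good_ys hFp hm hm6 ρ hker 0) (good_ys hFp hm hm6 ρ hker 2) (by
    apply smul_ext
    intro x
    rw [mul_smul, mul_smul]
    funext j
    rw [ys_smul, ys_smul, ys_smul, ys_smul]
    ring) (closure_ys hm)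
  exact ⟨ε, _, h1, h2⟩

end SL

end Cfsg.Agent.H420.G2U
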