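import Cfsg.Agent.H420.G2U.Lng
import Cfsg.Agent.ClassicalGeometry.UnitGenTwo

/-!
# Subgroups `SL₃`, `SU₃` of `G₂`, III: `SU₃(q)` fixes an idempotent (helper420, row G2(q) of S3938)
-/

set_option autoImplicit false
set_option linter.unusedSimpArgs false

namespace Cfsg.Agent.H420.G2U

open Cfsg Cfsg.Agent.H161.Oct
open Cfsg.Agent.LieClassical.HermBasic Cfsg.Agent.ClassicalGeometry.UnitTransv
open scoped Matrix

section SU

variable {F : Type*} [Field F] [Fintype F] {q : ℕ} (hF : Fintype.card F = q ^ 2)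

/-- the diagonal entries -/
def de (m : F) (i j : Fin 3) : F := if j = i then (m ^ 2)⁻¹ else m

omit [Fintype F] in
theorem de_norm {m : F} (hm : m * m ^ q = 1) (i j : Fin 3) : de m i j * de m i j ^ q = 1 := by
  unfold de
  split_ifs
  · have h1 : m ^ 2 * (m ^ 2) ^ q = 1 := by
      have : m ^ 2 * (m ^ 2) ^ q = (m * m ^ q) ^ 2 := by ring
      rw [this, hm, one_pow]
    rw [inv_pow, ← mul_inv, h1, inv_one]
  · exact hm

omit [Fintype F] in
theorem de_prod {m : F} (hm0 : m ≠ 0) (i : Fin 3) : de m i 0 * de m i 1 * de m i 2 = 1 := by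
  fin_cases i <;> simp [de] <;> field_simp

omit [Fintype F] in
theorem ne_zero_of_norm {m : F} (hm : m * m ^ q = 1) : m ≠ 0 := by
  rintro rfl
  rw [zero_mul] at hm
  exact zero_ne_one hm

/-- the diagonal elements -/
def ym (m : F) (hm : m * m ^ q = 1) (i : Fin 3) : SU 3 F q :=
  mk (Matrix.diagonal (de m i)) (by
    rw [Matrix.det_diagonal, Fin.prod_univ_three]
    exact de_prod (ne_zero_of_norm hm) i) (fun x y => by
    simp only [herm_def, Matrix.mulVec_diagonal, mul_pow]
    refine Finset.sum_congr rfl fun j _ => ?_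
    have := de_norm hm i j
    linear_combination (x j * y j ^ q) * this)

omit [Fintype F] in
theorem act_ym {m : F} (hm : m * m ^ q = 1) (i : Fin 3) (x : Fin 3 → F) (j : Fin 3) :
    act (ym m hm i) x j = de m i j * x j := by
  rw [ym, act_mk, Matrix.mulVec_diagonal]

omit [Fintype F] in
theorem act_ym_of {m : F} (hm : m * m ^ q = 1) {i : Fin 3} {v : Fin 3 → F} (hv : v i = 0) :
    act (ym m hm i) v = m • v := by
  funext j
  rw [act_ym, Pi.smul_apply, smul_eq_mul, de]
  split_ifs with h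
  · rw [h, hv, mul_zero, mul_zero]
  · rfl

theorem comm_utv {m c : F} (hm : m * m ^ q = 1) {i : Fin 3} {v : Fin 3 → F} (hvi : v i = 0)
    (hv : hermForm 3 F q v v = 0) (hc : c + c ^ q = 0) :
    utv hF v c hv hc * ym m hm i = ym m hm i * utv hF v c hv hc := by
  apply ext_act
  intro x
  rw [act_mul, act_mul, act_utv, act_utv, act_add, act_smul, act_ym_of hm hvi]
  have h1 : hermForm 3 F q (act (ym m hm i) x) v = m * hermForm 3 F q x v := by
    have h2 : hermForm 3 F q (act (ym m hm i) x) (m • v) = hermForm 3 F q x v := by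
      rw [← act_ym_of hm hvi, herm_act]
    rw [herm_smul_right] at h2
    rw [← h2]
    linear_combination (-(hermForm 3 F q (act (ym m hm i) x) v)) * hm
  rw [h1, smul_smul]
  congr 2
  ring

theorem utv_siegel {u w : Fin 3 → F} {μ c : F} (hu : hermForm 3 F q u u = 0) (hwu : hermForm 3 F q w u = 0)
    (hμ : μ + μ ^ q + hermForm 3 F q w w = 0) (hc : c + c ^ q = 0) :
    utv hF u c hu hc * siegel hF u w μ hu hwu hμ = siegel hF u w μ hu hwu hμ * utv hF u c hu hc := by
  have huw := herm_eq_zero_swap hF hwu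
  apply ext_act
  intro x
  rw [act_mul, act_mul]
  simp only [act_siegel hF, act_utv hF, herm_add_left, herm_smul_left, hu, hwu, huw, mul_zero, add_zero]
  ext i
  simp only [Pi.add_apply, Pi.smul_apply, smul_eq_mul]
  ring

theorem utv_pow {v : Fin 3 → F} {c : F} (hv : hermForm 3 F q v v = 0) (hc : c + c ^ q = 0) (n : ℕ) (x : Fin 3 → F) :
    act (utv hF v c hv hc ^ n) x = x + ((n : F) * (c * hermForm 3 F q x v)) • v := by
  induction n with
  | zero => rw [pow_zero, act_one, Nat.cast_zero, zero_mul, zero_smul, add_zero]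
  | succ n ih =>
    rw [pow_succ', act_mul, ih, act_utv, herm_add_left, herm_smul_left, hv, mul_zero, add_zero, add_assoc, ← add_smul]
    congr 2
    push_cast
    ring

variable {K : Type*} [Field K] {p : ℕ} [hp : Fact p.Prime] [CharP K p]

include hF in
theorem exists_iso (i : Fin 3) : ∃ (v : Fin 3 → F) (j k : Fin 3) (l : F), j ≠ i ∧ k ≠ i ∧ j ≠ k ∧ l ≠ 0 ∧ v i = 0 ∧
    v j = 1 ∧ v k = l ∧ hermForm 3 F q v v = 0 := by
  obtain ⟨l, hl⟩ := exists_norm_eq hF (c := -1) (by rw [neg_pow_q hF, one_pow])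
  have hl0 : l ≠ 0 := by
    rintro rfl
    rw [zero_mul] at hl
    exact one_ne_zero (neg_eq_zero.1 hl.symm)
  have h0 := zero_pow_q hF
  fin_cases i
  · refine ⟨![0, 1, l], 1, 2, l, by decide, by decide, by decide, hl0, rfl, rfl, rfl, ?_⟩
    rw [herm_def, Fin.sum_univ_three]
    simp
    rw [hl]
    ring
  · refine ⟨![1, 0, l], 0, 2, l, by decide, by decide, by decide, hl0, rfl, rfl, rfl, ?_⟩
    rw [herm_def, Fin.sum_univ_three]
    simp
    rw [hl]
    ring
  · refine ⟨![1, l, 0], 0, 1, l, by decide, by decide, by decide, hl0, rfl, rfl, rfl, ?_⟩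
    rw [herm_def, Fin.sum_univ_three]
    simp
    rw [hl]
    ring

include hF in
/-- **The diagonal elements are good.** -/
theorem good_ym (hFp : CharP F p) {m : F} (hm : m * m ^ q = 1) (hm6 : m ^ 6 ≠ 1) (ρ : ↥(SU 3 F q) →* ↥(AutO K))
    (hker : ∀ g, ρ g = 1 → g ∈ Subgroup.center ↥(SU 3 F q)) (i : Fin 3) : Good ρ p (ym m hm i) := by
  have hm0 := ne_zero_of_norm hm
  have hm3 : m ^ 3 ≠ 1 := fun h => hm6 (by rw [show (6 : ℕ) = 3 * 2 by norm_num, pow_mul, h, one_pow])
  obtain ⟨v, j, k, l, hji, hki, hjk, hl0, hvi, hvj, hvk, hv⟩ := exists_iso hF i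
  -- vectors
  have hev : hermForm 3 F q (Pi.single i 1) v = 0 := by rw [herm_single_left, hvi, zero_pow_q hF, mul_zero]
  have hee : hermForm 3 F q (Pi.single i (1 : F)) (Pi.single i 1) = 1 := by
    rw [herm_single_left, Pi.single_eq_same, one_pow, one_mul]
  obtain ⟨c, hc0, hc⟩ := exists_trace_zero_ne hF
  obtain ⟨a, ha⟩ := exists_sub_pow_eq hF hc
  have hav : hermForm 3 F q (a • Pi.single i 1) v = 0 := by rw [herm_smul_left, hev, mul_zero]
  have hae : hermForm 3 F q (a • Pi.single i 1) (Pi.single i 1) - hermForm 3 F q (Pi.single i 1) (a • Pi.single i 1) = c := by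
    rw [herm_smul_left, herm_smul_right, hee, mul_one, mul_one, ha]
  have htr : ∀ z : Fin 3 → F, ∃ μ : F, μ + μ ^ q + hermForm 3 F q z z = 0 := by
    intro z
    obtain ⟨μ, hμ⟩ := exists_trace_eq hF (c := -hermForm 3 F q z z) (by
      rw [neg_pow_q hF, herm_self_pow hF])
    exact ⟨μ, by rw [hμ]; ring⟩
  obtain ⟨μ, hμ⟩ := htr (a • Pi.single i 1)
  obtain ⟨μ', hμ'⟩ := htr (Pi.single i 1)
  have hdj : de m i j = m := by rw [de, if_neg hji]
  have hdi : de m i i = (m ^ 2)⁻¹ := by rw [de, if_pos rfl]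
  refine ⟨?_, ⟨q + 1, ?_, ?_⟩, utv hF v c hv hc, siegel hF v (a • Pi.single i 1) μ hv hav hμ,
    siegel hF v (Pi.single i 1) μ' hv hev hμ', comm_utv hF hm hvi hv hc, ⟨1, ?_⟩, ?_, utv_siegel hF hv hav hμ hc,
    utv_siegel hF hv hev hμ' hc, (siegel_mul_comm hF hv hav hμ hev hμ' hc hae).symm⟩
  · -- the square is not central
    intro h1
    have h2 := hker (ym m hm i ^ 2) (by rw [map_pow, h1])
    have h3 := Subgroup.mem_center_iff.1 h2 (siegel hF v (Pi.single i 1) μ' hv hev hμ')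
    have h4 := congrArg (fun A => act A (Pi.single i 1) j) h3
    simp only [pow_two, act_mul] at h4
    rw [act_ym, act_ym, act_siegel, act_siegel, hee, hev] at h4
    have h5 : act (ym m hm i) (Pi.single i 1) = (m ^ 2)⁻¹ • Pi.single i 1 := by
      funext t
      rw [act_ym, Pi.smul_apply, smul_eq_mul]
      by_cases hti : t = i
      · subst hti; rw [hdi]
      · rw [Pi.single_eq_of_ne hti, mul_zero, mul_zero]
    rw [h5, act_smul, h5] at h4
    simp only [herm_smul_left, hee, hev, Pi.add_apply, Pi.smul_apply, smul_eq_mul, Pi.single_eq_of_ne hji, hdj, hvj] at h4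
    apply hm6
    have h6 : (m ^ 2)⁻¹ * (m ^ 2)⁻¹ = m * m := by linear_combination -h4
    have h7 : m ^ 6 = (m ^ 2 * m ^ 2) * (m * m) := by ring
    rw [h7, ← h6]
    field_simp
  · -- the order
    obtain ⟨p', k', hp', hch, hq, hk⟩ := exists_prime_pow hF
    have : p' = p := CharP.eq F hch hFp
    subst this
    intro h1
    push_cast at h1
    rw [hq] at h1
    push_cast at h1
    rw [CharP.cast_eq_zero, zero_pow hk.ne', zero_add] at h1
    exact one_ne_zero h1
  · apply ext_act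
    intro x
    have : ∀ n : ℕ, ∀ x t, act (ym m hm i ^ n) x t = de m i t ^ n * x t := by
      intro n
      induction n with
      | zero => intro x t; rw [pow_zero, act_one, pow_zero, one_mul]
      | succ n ih => intro x t; rw [pow_succ, act_mul, ih, act_ym, pow_succ]; ring
    funext t
    rw [this, act_one, pow_succ', de_norm hm i t, one_mul]
  · apply ext_act
    intro x
    rw [pow_one, utv_pow hF hv hc, act_one, CharP.cast_eq_zero, zero_mul, zero_smul, add_zero]
  · -- `z` is not central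
    intro h1
    have h2 := hker _ h1
    have h3 := Subgroup.mem_center_iff.1 h2 (ym m hm j)
    have h4 := congrArg (fun A => act A (Pi.single j 1) k) h3
    simp only [act_mul] at h4
    have h5 : act (ym m hm j) (Pi.single j 1) = (m ^ 2)⁻¹ • Pi.single j 1 := by
      funext t
      rw [act_ym, Pi.smul_apply, smul_eq_mul]
      by_cases hti : t = j
      · subst hti; rw [de, if_pos rfl]
      · rw [Pi.single_eq_of_ne hti, mul_zero, mul_zero]
    have h6 : hermForm 3 F q (Pi.single j 1) v = 1 := by rw [herm_single_left, hvj, one_pow, one_mul]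
    rw [h5, act_smul, act_ym, act_utv, h6, mul_one, Pi.add_apply, Pi.smul_apply, Pi.smul_apply, Pi.add_apply,
      Pi.smul_apply, Pi.single_eq_of_ne hjk.symm, de, if_neg hjk.symm, hvk] at h4
    simp only [smul_eq_mul, zero_add] at h4
    apply hm3
    have h7 : (m - (m ^ 2)⁻¹) * (c * l) = 0 := by linear_combination h4
    have h8 := (mul_eq_zero.1 h7).resolve_right (mul_ne_zero hc0 hl0)
    have h9 : m = (m ^ 2)⁻¹ := sub_eq_zero.1 h8
    calc m ^ 3 = m ^ 2 * m := by ring
      _ = m ^ 2 * (m ^ 2)⁻¹ := by rw [← h9]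
      _ = 1 := mul_inv_cancel₀ (pow_ne_zero _ hm0)

/-- the element moving `v` to a vector without third coordinate -/
def rm (hF : Fintype.card F = q ^ 2) (s t b k : F) (hb : b * b ^ q = s * s ^ q + t * t ^ q) (hk : k * (b * b ^ q) = 1) :
    SU 3 F q :=
  mk !![1, 0, 0; 0, k * b * s ^ q, k * b * t ^ q; 0, -(k * b ^ q * t), k * b ^ q * s] (by
    rw [Matrix.det_fin_three]
    simp
    linear_combination (-(k ^ 2 * (b * b ^ q))) * hb + (k * (b * b ^ q) + 1) * hk) (fun x y => by
    have hkq : k ^ q = k := by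
      have h1 : (b * b ^ q) ^ q = b * b ^ q := norm_pow_q hF b
      have h2 : k ^ q * (b * b ^ q) = 1 := by
        rw [← h1, ← mul_pow, hk, one_pow]
      have hb0 : b * b ^ q ≠ 0 := by
        intro h; rw [h, mul_zero] at hk; exact zero_ne_one hk
      exact mul_right_cancel₀ hb0 (h2.trans hk.symm)
    simp only [herm_def, Fin.sum_univ_three, Matrix.mulVec, dotProduct]
    simp only [Matrix.of_apply, Matrix.cons_val_zero, Matrix.cons_val_one, Matrix.cons_val, one_mul, zero_mul,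
      add_zero, zero_add]
    rw [add_pow_q hF, add_pow_q hF]
    simp only [mul_pow, neg_pow_q hF, hkq, pow_q_pow_q hF]
    linear_combination ((x 1 * y 1 ^ q + x 2 * y 2 ^ q) * (k * k * (b * b ^ q))) * (-hb) +
      ((x 1 * y 1 ^ q + x 2 * y 2 ^ q) * (k * (b * b ^ q) + 1)) * hk)

include hF in
theorem closure_ym {m : F} (hm : m * m ^ q = 1) (hq : q ≠ 2) :
    Subgroup.closure ({g | g * ym m hm 0 = ym m hm 0 * g} ∪ {g | g * ym m hm 2 = ym m hm 2 * g}) =
      (⊤ : Subgroup ↥(SU 3 F q)) := by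
  rw [eq_top_iff, ← Cfsg.Agent.ClassicalGeometry.UnitGenTwo.T_eq_top hF (n := 3) (by omega)]
  unfold Cfsg.Agent.ClassicalGeometry.UnitGen.T
  rw [Subgroup.closure_le]
  rintro A ⟨v, c, hv, hA⟩
  rcases eq_one_or_utv hF hv hA with h | ⟨hv0, hc, rfl⟩
  · rw [h]; exact one_mem _
  by_cases h2 : v 2 = 0
  · exact Subgroup.subset_closure (Or.inr (comm_utv hF hm h2 hv hc))
  by_cases h0 : v 0 = 0
  · exact Subgroup.subset_closure (Or.inl (comm_utv hF hm h0 hv hc))
  -- the general case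
  obtain ⟨θ, hθ⟩ := exists_norm_eq hF (c := -1) (by rw [neg_pow_q hF, one_pow])
  have hsum : v 0 * v 0 ^ q + v 1 * v 1 ^ q + v 2 * v 2 ^ q = 0 := by
    rw [herm_def, Fin.sum_univ_three] at hv
    exact hv
  have hb : (θ * v 0) * (θ * v 0) ^ q = v 1 * v 1 ^ q + v 2 * v 2 ^ q := by
    rw [Cfsg.Agent.LieClassical.HermBasic.norm_mul, hθ]
    linear_combination -hsum
  have hb0 : (θ * v 0) * (θ * v 0) ^ q ≠ 0 := by
    rw [Cfsg.Agent.LieClassical.HermBasic.norm_mul, hθ]
    exact mul_ne_zero (by simp) (fun h => h0 ((norm_eq_zero hF).1 h))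
  set R := rm hF (v 1) (v 2) (θ * v 0) ((θ * v 0) * (θ * v 0) ^ q)⁻¹ hb (inv_mul_cancel₀ hb0) with hR
  have hRact : ∀ x : Fin 3 → F, act R x = !![1, 0, 0; 0, ((θ * v 0) * (θ * v 0) ^ q)⁻¹ * (θ * v 0) * v 1 ^ q,
      ((θ * v 0) * (θ * v 0) ^ q)⁻¹ * (θ * v 0) * v 2 ^ q; 0, -(((θ * v 0) * (θ * v 0) ^ q)⁻¹ * (θ * v 0) ^ q * v 2),
      ((θ * v 0) * (θ * v 0) ^ q)⁻¹ * (θ * v 0) ^ q * v 1] *ᵥ x := fun x => rfl
  have hRy : R * ym m hm 0 = ym m hm 0 * R := by
    apply ext_act
    intro x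
    rw [act_mul, act_mul]
    funext j
    rw [act_ym, hRact, hRact]
    simp only [Matrix.mulVec, dotProduct, Fin.sum_univ_three, act_ym]
    fin_cases j <;> simp [de] <;> ring
  have hRv : act R v 2 = 0 := by
    rw [hRact]
    simp [Matrix.mulVec, dotProduct, Fin.sum_univ_three]
    ring
  have hv' : hermForm 3 F q (act R v) (act R v) = 0 := by rw [herm_act, hv]
  have hconj : utv hF v c hv hc = R⁻¹ * utv hF (act R v) c hv' hc * R := by
    have h1 : R * utv hF v c hv hc = utv hF (act R v) c hv' hc * R := by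
      apply ext_act
      intro x
      rw [act_mul, act_mul, act_utv, act_utv, act_add, act_smul, herm_act]
    rw [mul_assoc, ← h1]
    group
  have hRm : R ∈ Subgroup.closure ({g | g * ym m hm 0 = ym m hm 0 * g} ∪ {g | g * ym m hm 2 = ym m hm 2 * g}) :=
    Subgroup.subset_closure (Or.inl hRy)
  rw [hconj]
  exact mul_mem (mul_mem (inv_mem hRm) (Subgroup.subset_closure (Or.inr (comm_utv hF hm hRv hv' hc)))) hRm

include hF in
/-- a generator of the group of norm one -/
theorem exists_m (hq : ¬ q + 1 ∣ 6) : ∃ m : F, m * m ^ q = 1 ∧ m ^ 6 ≠ 1 := by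
  obtain ⟨g, hg⟩ := IsCyclic.exists_generator (α := Fˣ)
  have ho : orderOf g = (q + 1) * (q - 1) := by
    rw [orderOf_eq_card_of_forall_mem_zpowers hg, card_units_eq hF]
  have h2 := two_le hF
  have hq1 : 0 < q - 1 := by omega
  have h3 : orderOf (g ^ (q - 1)) = q + 1 := by
    rw [orderOf_pow, ho, Nat.gcd_eq_right (Dvd.intro_left _ rfl), Nat.mul_div_cancel _ hq1]
  refine ⟨(g ^ (q - 1) : Fˣ), ?_, ?_⟩
  · have h4 : (g ^ (q - 1)) ^ (q + 1) = 1 := by rw [← h3, pow_orderOf_eq_one]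
    have h5 := congrArg (fun u : Fˣ => (u : F)) h4
    simp only [Units.val_one] at h5
    rw [Units.val_pow_eq_pow_val, pow_succ'] at h5
    exact h5
  · intro h4
    apply hq
    rw [← h3]
    apply orderOf_dvd_of_pow_eq_one
    apply Units.ext
    rw [Units.val_pow_eq_pow_val, h4, Units.val_one]

include hF in
/-- **`SU₃(q)` fixes an idempotent**, `q + 1` not dividing 6, `p ≠ 3`. -/
theorem su_eps [IsAlgClosed K] (h3 : (3 : K) ≠ 0) (hFp : CharP F p) (hq : ¬ q + 1 ∣ 6) (ρ : ↥(SU 3 F q) →* ↥(AutO K))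
    (hker : ∀ g, ρ g = 1 → g ∈ Subgroup.center ↥(SU 3 F q))
    (hdet : ∀ s, LinearMap.det ((ρ s).1 : V K →ₗ[K] V K) = 1) :
    ∃ ε y, Lng (ρ y).1 ε ∧ ∀ s, (ρ s).1 ε = ε := by
  obtain ⟨m, hm, hm6⟩ := exists_m hF hq
  have hq2 : q ≠ 2 := by rintro rfl; exact hq (by norm_num)
  obtain ⟨ε, h1, h2⟩ := exists_eps (p := p) h3 hdet (good_ym hF hFp hm hm6 ρ hker 0) (good_ym hF hFp hm hm6 ρ hker 2) (by
    apply ext_act
    intro x
    rw [act_mul, act_mul]
    funext j
    rw [act_ym, act_ym, act_ym, act_ym]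
    ring) (closure_ym hF hm hq2)
  exact ⟨ε, _, h1, h2⟩

end SU

end Cfsg.Agent.H420.G2U
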